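/-
Certificates for identities between words in involutions with braid and commutation relations.

Main results: `wd_run`, `wd_chain`.
-/
import Cfsg.Agent.EqLemmas

set_option autoImplicit false

namespace Cfsg.Agent.CoxStem

/-- The value of a word, first letter leftmost. -/
def wd {H : Type*} [Monoid H] (X : ℕ → H) (w : List ℕ) : H := (w.map X).prod

/-- Joined nodes. -/
def adjB (edges : List (ℕ × ℕ)) (x y : ℕ) : Bool :=
  edges.any fun e => (Nat.beq e.1 x && Nat.beq e.2 y) || (Nat.beq e.1 y && Nat.beq e.2 x)

/-- The move at a position: cancellation, braid move or commutation. -/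
def mv (adj : ℕ → ℕ → Bool) : List ℕ → Option (List ℕ)
  | x :: y :: w =>
    if Nat.beq x y then some w
    else if adj x y then
      (match w with
      | z :: w' => if Nat.beq z x then some (y :: x :: y :: w') else none
      | [] => none)
    else some (y :: x :: w)
  | _ => none

/-- The move at position `p`. -/
def stepAt (adj : ℕ → ℕ → Bool) : List ℕ → ℕ → Option (List ℕ)
  | [], _ => none
  | x :: w, p => if Nat.beq p 0 then mv adj (x :: w) else
      (match stepAt adj w (p - 1) with
      | some v => some (x :: v)
      | none => none)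

/-- A list of moves. -/
def run (adj : ℕ → ℕ → Bool) : List ℕ → List ℕ → Option (List ℕ)
  | w, [] => some w
  | w, p :: ps =>
    match stepAt adj w p with
    | some v => run adj v ps
    | none => none

/-- Items appended one by one, each followed by moves. -/
def chain (adj : ℕ → ℕ → Bool) (items : List (List ℕ)) : List ℕ → List (ℕ × List ℕ) → Option (List ℕ)
  | w, [] => some w
  | w, s :: ss =>
    match run adj (w ++ items.getD s.1 []) s.2 with
    | some v => chain adj items v ss
    | none => none

/-- The relations of the involutions. -/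
structure Rel {H : Type*} [Group H] (edges : List (ℕ × ℕ)) (X : ℕ → H) : Prop where
  sq : ∀ x, X x * X x = 1
  braid : ∀ e ∈ edges, X e.1 * X e.2 * X e.1 = X e.2 * X e.1 * X e.2
  comm : ∀ x y, x ≠ y → adjB edges x y = false → X x * X y = X y * X x

section

variable {H : Type*} [Group H] {edges : List (ℕ × ℕ)} {X : ℕ → H}

theorem wd_nil : wd X [] = 1 := rfl

theorem wd_cons (x : ℕ) (w : List ℕ) : wd X (x :: w) = X x * wd X w := by
  simp [wd]

theorem wd_append (u w : List ℕ) : wd X (u ++ w) = wd X u * wd X w := by
  simp [wd]

theorem Rel.wd_reverse (h : Rel edges X) : ∀ w : List ℕ, wd X w.reverse = (wd X w)⁻¹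
  | [] => by simp [wd_nil]
  | x :: w => by
    rw [List.reverse_cons, wd_append, h.wd_reverse w, wd_cons x [], wd_nil, wd_cons, mul_one, mul_inv_rev,
      ← eq_inv_of_mul_eq_one_left (h.sq x)]

theorem Rel.braid' (h : Rel edges X) {x y : ℕ} (hxy : adjB edges x y = true) :
    X x * X y * X x = X y * X x * X y := by
  simp only [adjB, List.any_eq_true, Bool.or_eq_true, Bool.and_eq_true, Nat.beq_eq] at hxy
  obtain ⟨e, he, ⟨rfl, rfl⟩ | ⟨rfl, rfl⟩⟩ := hxy
  · exact h.braid e he
  · exact (h.braid e he).symm

theorem wd_mv (h : Rel edges X) {w v : List ℕ} (hv : mv (adjB edges) w = some v) : wd X v = wd X w := by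
  rcases w with _ | ⟨x, _ | ⟨y, w⟩⟩
  · simp [mv] at hv
  · simp [mv] at hv
  by_cases hxy : x = y
  · subst hxy
    simp only [mv, Nat.beq_refl, if_true, Option.some.injEq] at hv
    subst hv
    rw [wd_cons, wd_cons, ← mul_assoc, h.sq, one_mul]
  have hb : Nat.beq x y = false := Bool.eq_false_iff.mpr fun e => hxy (Nat.eq_of_beq_eq_true e)
  cases ha : adjB edges x y
  · simp only [mv, hb, ha, Bool.false_eq_true, if_false, Option.some.injEq] at hv
    subst hv
    simp only [wd_cons, ← mul_assoc, h.comm x y hxy ha]
  · rcases w with _ | ⟨z, w⟩
    · simp [mv, hb, ha] at hv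
    by_cases hz : z = x
    · subst hz
      simp only [mv, hb, ha, Nat.beq_refl, Bool.false_eq_true, if_false, if_true, Option.some.injEq] at hv
      subst hv
      simp only [wd_cons, ← mul_assoc, h.braid' ha]
    · have hb' : Nat.beq z x = false := Bool.eq_false_iff.mpr fun e => hz (Nat.eq_of_beq_eq_true e)
      simp [mv, hb, ha, hb'] at hv

theorem wd_stepAt (h : Rel edges X) : ∀ {w : List ℕ} {p : ℕ} {v : List ℕ},
    stepAt (adjB edges) w p = some v → wd X v = wd X w := by
  intro w
  induction w with
  | nil => intro p v hv; simp [stepAt] at hv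
  | cons x w ih =>
    intro p v hv
    simp only [stepAt] at hv
    split_ifs at hv with hp
    · exact wd_mv h hv
    · cases hs : stepAt (adjB edges) w (p - 1) with
      | none => simp [hs] at hv
      | some u =>
        simp only [hs, Option.some.injEq] at hv
        subst hv
        rw [wd_cons, wd_cons, ih hs]

/-- The moves keep the value. -/
theorem wd_run (h : Rel edges X) : ∀ {ps : List ℕ} {w v : List ℕ},
    run (adjB edges) w ps = some v → wd X v = wd X w := by
  intro ps
  induction ps with
  | nil => intro w v hv; simp only [run, Option.some.injEq] at hv; rw [hv]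
  | cons p ps ih =>
    intro w v hv
    simp only [run] at hv
    cases hs : stepAt (adjB edges) w p with
    | none => simp [hs] at hv
    | some u =>
      simp only [hs] at hv
      rw [ih hv, wd_stepAt h hs]

/-- A word reducible to nothing has value one. -/
theorem wd_eq_one_of_run (h : Rel edges X) {ps w : List ℕ} (hv : run (adjB edges) w ps = some []) :
    wd X w = 1 := by
  rw [← wd_run h hv, wd_nil]

/-- The value at the end of a chain. -/
theorem wd_chain (h : Rel edges X) {items : List (List ℕ)} : ∀ {ss : List (ℕ × List ℕ)} {w v : List ℕ},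
    chain (adjB edges) items w ss = some v →
      wd X v = wd X w * (ss.map fun s => wd X (items.getD s.1 [])).prod := by
  intro ss
  induction ss with
  | nil => intro w v hv; simp only [chain, Option.some.injEq] at hv; simp [hv]
  | cons s ss ih =>
    intro w v hv
    rw [chain] at hv
    cases hs : run (adjB edges) (w ++ items.getD s.1 []) s.2 with
    | none => rw [List.getD_eq_getElem?_getD] at hs; simp [hs] at hv
    | some u =>
      have hs' := hs
      rw [List.getD_eq_getElem?_getD] at hs'
      simp [hs, hs'] at hv
      rw [ih hv, wd_run h hs, wd_append, List.map_cons, List.prod_cons, mul_assoc]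

end

end Cfsg.Agent.CoxStem
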