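/-
Involutive lifts to central extensions.

Main results: `exists_sqrt_ext`, `exists_lifts`, `commute_lifts`, `mem_of_relators`.
-/
import Cfsg.Agent.Lib.CoxStem.Moves
import Cfsg.Prelude.Def_KGroupFacts

set_option autoImplicit false
set_option linter.style.haveILetI false

open scoped commutatorElement

namespace Cfsg.Agent.CoxStem

/-- A central element of the kernel gets a square root in a larger extension with the same commutator subgroup. -/
theorem exists_sqrt_ext {Γ : Type} {G : Type*} [Group Γ] [Finite Γ] [Group G] (σ : Γ →* G)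
    (hs : Function.Surjective σ) (hc : σ.ker ≤ Subgroup.center Γ) (z : Γ) (hz : z ∈ σ.ker) :
    ∃ (Γs : Type) (_ : Group Γs) (_ : Finite Γs) (σs : Γs →* G) (ι : Γ →* Γs) (ζ : Γs),
      Function.Surjective σs ∧ σs.ker ≤ Subgroup.center Γs ∧ Function.Injective ι ∧ (∀ x, σs (ι x) = σ x) ∧
      ζ ∈ σs.ker ∧ ζ * ζ = ι z ∧ (commutator Γ).map ι ≤ commutator Γs := by
  classical
  set n := orderOf z with hn
  have hn0 : 0 < n := orderOf_pos z
  haveI : NeZero (2 * n) := ⟨by omega⟩
  let C := Multiplicative (ZMod (2 * n))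
  let g : C := Multiplicative.ofAdd 1
  have hg : ∀ k : ℤ, g ^ k = 1 ↔ ((2 * n : ℕ) : ℤ) ∣ k := by
    intro k
    rw [← ofAdd_zsmul, ← ZMod.intCast_zmod_eq_zero_iff_dvd, zsmul_one]
    exact ⟨fun h => Multiplicative.ofAdd.injective h, fun h => by rw [h]; rfl⟩
  let m : Γ × C := (z, (g * g)⁻¹)
  let N : Subgroup (Γ × C) := Subgroup.zpowers m
  have hzc : z ∈ Subgroup.center Γ := hc hz
  haveI : N.Normal := ⟨fun x hx y => by
    obtain ⟨k, rfl⟩ := Subgroup.mem_zpowers_iff.mp hx
    have : y * m ^ k * y⁻¹ = m ^ k := by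
      rw [mul_inv_eq_iff_eq_mul]
      refine Prod.ext ?_ (mul_comm _ _)
      show y.1 * (m ^ k).1 = (m ^ k).1 * y.1
      exact Subgroup.mem_center_iff.mp (show (m ^ k).1 ∈ Subgroup.center Γ from
        (show (m ^ k).1 = z ^ k from rfl) ▸ zpow_mem hzc k) y.1
    rw [this]; exact Subgroup.mem_zpowers_iff.mpr ⟨k, rfl⟩⟩
  have hNker : N ≤ (σ.comp (MonoidHom.fst Γ C)).ker := by
    rw [Subgroup.zpowers_le]; exact hz
  let σs : (Γ × C) ⧸ N →* G := QuotientGroup.lift N (σ.comp (MonoidHom.fst Γ C)) hNker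
  let ι : Γ →* (Γ × C) ⧸ N := (QuotientGroup.mk' N).comp (MonoidHom.inl Γ C)
  refine ⟨(Γ × C) ⧸ N, inferInstance, inferInstance, σs, ι, QuotientGroup.mk' N (1, g), ?_, ?_, ?_,
    fun x => rfl, ?_, ?_, ?_⟩
  · intro x
    obtain ⟨y, rfl⟩ := hs x
    exact ⟨ι y, rfl⟩
  · intro x hx
    obtain ⟨⟨y, c⟩, rfl⟩ := QuotientGroup.mk'_surjective N x
    have hy : y ∈ Subgroup.center Γ := hc (MonoidHom.mem_ker.mpr hx)
    rw [Subgroup.mem_center_iff]
    intro w
    obtain ⟨⟨w, d⟩, rfl⟩ := QuotientGroup.mk'_surjective N w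
    rw [← map_mul, ← map_mul]
    exact congrArg _ (Prod.ext (Subgroup.mem_center_iff.mp hy w) (mul_comm _ _))
  · rw [injective_iff_map_eq_one]
    intro y hy
    have hmem : ((y, 1) : Γ × C) ∈ N := (QuotientGroup.eq_one_iff _).mp hy
    obtain ⟨k, hk⟩ := Subgroup.mem_zpowers_iff.mp hmem
    have h1 : z ^ k = y := congrArg Prod.fst hk
    have h2 : ((g * g)⁻¹) ^ k = 1 := congrArg Prod.snd hk
    rw [inv_zpow, inv_eq_one, ← zpow_one g, ← zpow_add, ← zpow_mul, hg] at h2
    obtain ⟨j, hj⟩ := h2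
    rw [← h1]
    apply orderOf_dvd_iff_zpow_eq_one.mp
    exact ⟨j, by rw [hn] at hj; push_cast at hj; linarith⟩
  · show σ 1 = 1
    exact map_one σ
  · show QuotientGroup.mk' N (1, g) * QuotientGroup.mk' N (1, g) = QuotientGroup.mk' N (z, 1)
    rw [← map_mul, QuotientGroup.mk'_eq_mk']
    exact ⟨m, Subgroup.mem_zpowers m, Prod.ext (by simp [m]) (show g * g * (g * g)⁻¹ = 1 from mul_inv_cancel _)⟩
  · rw [commutator_def, Subgroup.map_commutator]
    exact Subgroup.commutator_mono le_top le_top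

/-- The vertices of an edge list. -/
def verts (T : List (ℕ × ℕ)) : List ℕ := T.flatMap fun e => [e.1, e.2]

/-- Every edge brings a new vertex, the later edges first. -/
def treeOK : List (ℕ × ℕ) → Bool
  | [] => true
  | e :: T => !(Nat.beq e.1 e.2) && !((verts T).any fun v => Nat.beq v e.2) && treeOK T

/-- Lifts braiding along a tree, joined lifts conjugate. -/
theorem exists_lifts {Γ G : Type*} [Group Γ] [Group G] (σ : Γ →* G) (hs : Function.Surjective σ)
    (hc : σ.ker ≤ Subgroup.center Γ) (g : ℕ → G) :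
    ∀ T : List (ℕ × ℕ), treeOK T = true → (∀ e ∈ T, g e.1 * g e.2 * g e.1 = g e.2 * g e.1 * g e.2) →
      ∃ X : ℕ → Γ, (∀ k, σ (X k) = g k) ∧
        ∀ e ∈ T, X e.1 * X e.2 * X e.1 = X e.2 * X e.1 * X e.2 ∧ IsConj (X e.1) (X e.2) := by
  classical
  intro T
  induction T with
  | nil => intro _ _; exact ⟨fun k => (hs (g k)).choose, fun k => (hs (g k)).choose_spec, by simp⟩
  | cons e T ih =>
    intro hT hb
    obtain ⟨p, c⟩ := e
    simp only [treeOK, Bool.and_eq_true, Bool.not_eq_true', List.any_eq_false] at hT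
    obtain ⟨⟨hpc, hfresh⟩, hT⟩ := hT
    have hpc' : p ≠ c := fun h => by simp [h] at hpc
    obtain ⟨X, hX, hXT⟩ := ih hT fun e he => hb e (List.mem_cons_of_mem _ he)
    set w := X p * X c with hw
    let X' : ℕ → Γ := Function.update X c (w * X p * w⁻¹)
    have hpX : X' p = X p := Function.update_of_ne hpc' _ _
    have hcX : X' c = w * X p * w⁻¹ := Function.update_self _ _ _
    have hgc : σ (w * X p * w⁻¹) = g c := by
      have := hb (p, c) List.mem_cons_self
      simp only [map_mul, map_inv, hw, hX]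
      rw [this]
      group
    refine ⟨X', fun k => ?_, ?_⟩
    · by_cases hk : k = c
      · subst hk; rw [hcX, hgc]
      · show σ (Function.update X c _ k) = g k
        rw [Function.update_of_ne hk]; exact hX k
    intro e he
    rcases List.mem_cons.mp he with rfl | he
    · have hconj : IsConj (X p) (w * X p * w⁻¹) := isConj_iff.mpr ⟨w, rfl⟩
      refine ⟨?_, by rw [hpX, hcX]; exact hconj⟩
      rw [hpX, hcX]
      set Y := w * X p * w⁻¹ with hY
      have hk : (X c)⁻¹ * Y ∈ Subgroup.center Γ := hc (by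
        rw [MonoidHom.mem_ker, map_mul, map_inv, hX, hgc, inv_mul_cancel])
      have key : (X p * Y) * X p * (X p * Y)⁻¹ = Y := by
        rw [show X p * Y = w * ((X c)⁻¹ * Y) by rw [hw]; group]
        calc w * ((X c)⁻¹ * Y) * X p * (w * ((X c)⁻¹ * Y))⁻¹
            = w * (((X c)⁻¹ * Y) * X p * ((X c)⁻¹ * Y)⁻¹) * w⁻¹ := by group
          _ = w * X p * w⁻¹ := by rw [← Subgroup.mem_center_iff.mp hk (X p), mul_inv_cancel_right]
          _ = Y := hY.symm
      calc X p * Y * X p = (X p * Y) * X p * (X p * Y)⁻¹ * (X p * Y) := by group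
        _ = Y * X p * Y := by rw [key]; exact (mul_assoc _ _ _).symm
    · have h1 : e.1 ≠ c := fun h => by
        have := hfresh e.1 (by simp only [verts, List.mem_flatMap]; exact ⟨e, he, by simp⟩)
        simp [h] at this
      have h2 : e.2 ≠ c := fun h => by
        have := hfresh e.2 (by simp only [verts, List.mem_flatMap]; exact ⟨e, he, by simp⟩)
        simp [h] at this
      simp only [X', Function.update_of_ne h1, Function.update_of_ne h2]
      exact hXT e he

/-- Conjugate elements have the same central square. -/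
theorem sq_eq_of_isConj {Γ : Type*} [Group Γ] {a b : Γ} (h : IsConj a b) (hc : a * a ∈ Subgroup.center Γ) :
    b * b = a * a := by
  obtain ⟨u, rfl⟩ := isConj_iff.mp h
  calc u * a * u⁻¹ * (u * a * u⁻¹) = u * (a * a) * u⁻¹ := by group
    _ = a * a := by rw [Subgroup.mem_center_iff.mp hc u, mul_inv_cancel_right]

/-- A nontrivial finite group of exponent two has a subgroup of index two. -/
theorem exists_index_two {R : Type*} [Group R] [Finite R] [Nontrivial R] (h : ∀ x : R, x * x = 1) :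
    ∃ L : Subgroup R, L.index = 2 := by
  have hp : IsPGroup 2 R := fun x => ⟨1, by rw [pow_one, pow_two, h x]⟩
  haveI : Fact (Nat.Prime 2) := ⟨Nat.prime_two⟩
  obtain ⟨k, hk⟩ := hp.exists_card_eq
  rcases k with _ | k
  · exact absurd hk (by rw [pow_zero]; exact Finite.one_lt_card.ne')
  obtain ⟨L, hL⟩ := Sylow.exists_subgroup_card_pow_prime (G := R) 2 (n := k) (by rw [hk]; exact pow_dvd_pow 2 (by omega))
  refine ⟨L, ?_⟩
  have := L.index_mul_card
  rw [hL, hk, pow_succ] at this
  exact Nat.eq_of_mul_eq_mul_right (by positivity) (this.trans (mul_comm _ _))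

/-- Involutive lifts of an involution commute with all lifts of elements of its centraliser, if that has no
subgroup of index two. -/
theorem commute_lifts {Γ G : Type*} [Group Γ] [Finite Γ] [Group G] (σ : Γ →* G) (hs : Function.Surjective σ)
    (hc : σ.ker ≤ Subgroup.center Γ) (z0 : G) (C : Subgroup G)
    (hC : ∀ y, y * z0 = z0 * y → y ∈ C) (hC' : ∀ y ∈ C, y * z0 = z0 * y)
    (hidx : ∀ L : Subgroup C, L.index ≠ 2) (X Y : Γ) (hX : IsConj z0 (σ X)) (hX2 : X * X = 1)
    (hXY : σ X * σ Y = σ Y * σ X) : X * Y = Y * X := by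
  obtain ⟨u, hu⟩ := isConj_iff.mp hX
  obtain ⟨U, rfl⟩ := hs u
  set Z := U⁻¹ * X * U with hZ
  have hσZ : σ Z = z0 := by
    rw [hZ, map_mul, map_mul, map_inv, ← hu]; group
  have hZ2 : Z * Z = 1 := by
    rw [hZ, show U⁻¹ * X * U * (U⁻¹ * X * U) = U⁻¹ * (X * X) * U by group, hX2]; group
  classical
  let li : C → Γ := fun y => (hs (y : G)).choose
  have hli : ∀ y : C, σ (li y) = y := fun y => (hs (y : G)).choose_spec
  have hker : ∀ W : Γ, σ W * z0 = z0 * σ W → W * Z * W⁻¹ * Z⁻¹ ∈ σ.ker := by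
    intro W hW
    rw [MonoidHom.mem_ker, map_mul, map_mul, map_mul, map_inv, map_inv, hσZ, hW]
    group
  let val : C → Γ := fun y => li y * Z * (li y)⁻¹ * Z⁻¹
  have hval : ∀ (y : C) (W : Γ), σ W = y → W * Z * W⁻¹ * Z⁻¹ = val y := by
    intro y W hW
    have hk : (li y)⁻¹ * W ∈ Subgroup.center Γ := hc (by
      rw [MonoidHom.mem_ker, map_mul, map_inv, hli, hW, inv_mul_cancel])
    calc W * Z * W⁻¹ * Z⁻¹
        = li y * (((li y)⁻¹ * W) * Z * ((li y)⁻¹ * W)⁻¹) * (li y)⁻¹ * Z⁻¹ := by group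
      _ = val y := by rw [← Subgroup.mem_center_iff.mp hk Z, mul_inv_cancel_right]
  have hvc : ∀ y : C, val y ∈ Subgroup.center Γ := fun y => hc (hker _ (by rw [hli]; exact hC' y y.2))
  let χ : C →* Γ := MonoidHom.mk' val fun a b => by
    rw [← hval (a * b) (li a * li b) (by rw [map_mul, hli, hli]; rfl)]
    calc li a * li b * Z * (li a * li b)⁻¹ * Z⁻¹
        = li a * (li b * Z * (li b)⁻¹ * Z⁻¹) * (li a)⁻¹ * (li a * Z * (li a)⁻¹ * Z⁻¹) := by group
      _ = val b * val a := by
          rw [show li b * Z * (li b)⁻¹ * Z⁻¹ = val b from rfl, show li a * Z * (li a)⁻¹ * Z⁻¹ = val a from rfl,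
            Subgroup.mem_center_iff.mp (hvc b) (li a), mul_inv_cancel_right]
      _ = val a * val b := (Subgroup.mem_center_iff.mp (hvc b) (val a)).symm
  have hsq : ∀ y, χ y * χ y = 1 := by
    intro y
    show val y * val y = 1
    calc val y * val y = li y * Z * (li y)⁻¹ * (val y * Z⁻¹) := by
          rw [Subgroup.mem_center_iff.mp (hvc y) Z⁻¹ |>.symm]; simp only [val]; group
      _ = li y * Z * (li y)⁻¹ * (li y * Z * (li y)⁻¹ * (Z * Z)⁻¹) := by simp only [val]; group
      _ = li y * (Z * Z) * (li y)⁻¹ := by rw [show (Z * Z)⁻¹ = 1 by rw [hZ2, inv_one]]; group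
      _ = 1 := by rw [hZ2]; group
  have hone : ∀ y, χ y = 1 := by
    by_contra hne
    push Not at hne
    obtain ⟨y, hy⟩ := hne
    haveI : Nontrivial χ.range := ⟨⟨χ y, y, rfl⟩, 1, fun h => hy (congrArg Subtype.val h)⟩
    obtain ⟨L, hL⟩ := exists_index_two (R := χ.range) (fun x => by
      obtain ⟨_, w, rfl⟩ := x; exact Subtype.ext (hsq w))
    exact hidx (L.comap χ.rangeRestrict)
      ((L.index_comap_of_surjective χ.rangeRestrict_surjective).trans hL)
  set W := U⁻¹ * Y * U with hW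
  have hWz : σ W * z0 = z0 * σ W := by
    rw [← hσZ, ← map_mul, ← map_mul, hW, hZ, show U⁻¹ * Y * U * (U⁻¹ * X * U) = U⁻¹ * (Y * X) * U by group,
      show U⁻¹ * X * U * (U⁻¹ * Y * U) = U⁻¹ * (X * Y) * U by group]
    simp only [map_mul, hXY]
  have h1 := (hval ⟨σ W, hC _ hWz⟩ W rfl).trans (hone ⟨σ W, hC _ hWz⟩)
  have h2 : W * Z = Z * W := by
    calc W * Z = W * Z * W⁻¹ * Z⁻¹ * (Z * W) := by group
      _ = Z * W := by rw [h1, one_mul]
  calc X * Y = U * (Z * W) * U⁻¹ := by rw [hZ, hW]; group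
    _ = U * (W * Z) * U⁻¹ := by rw [h2]
    _ = Y * X := by rw [hZ, hW]; group

/-- Kernel elements inside the commutator subgroup, seen through the values of the relators. -/
theorem mem_of_relators {α : Type*} {rels : Set (FreeGroup α)} {Γ Γs : Type*} [Group Γ] [Group Γs]
    (σ : Γ →* PresentedGroup rels) (σs : Γs →* PresentedGroup rels) (hc : σs.ker ≤ Subgroup.center Γs)
    (ι : Γ →* Γs) (hι : ∀ x, σs (ι x) = σ x) (hcomm : (commutator Γ).map ι ≤ commutator Γs)
    (X : α → Γs) (hX : ∀ a, σs (X a) = PresentedGroup.of a)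
    {A : Type*} [CommGroup A] (P : α → A) (L : Subgroup (Γs × A))
    (hL : ∀ r ∈ rels, (FreeGroup.lift X r, FreeGroup.lift P r) ∈ L)
    {x : Γ} (hx : x ∈ σ.ker) (hx' : x ∈ commutator Γ) : (ι x, 1) ∈ L := by
  set φ := FreeGroup.lift X with hφ
  set ψ := FreeGroup.lift P with hψ
  have hcomp : σs.comp φ = PresentedGroup.mk rels := by
    ext a
    simp [φ, hX, PresentedGroup.of]
  have hsurj : ∀ y : Γs, ∃ w, φ w⁻¹ * y ∈ Subgroup.center Γs := fun y => by
    obtain ⟨w, hw⟩ := PresentedGroup.mk_surjective rels (σs y)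
    refine ⟨w, hc ?_⟩
    rw [MonoidHom.mem_ker, map_mul, map_inv, map_inv, show σs (φ w) = σs y by rw [← hw, ← hcomp]; rfl,
      inv_mul_cancel]
  have hcle : commutator Γs ≤ (commutator (FreeGroup α)).map φ := by
    rw [commutator_def, commutator_def, Subgroup.map_commutator]
    rw [Subgroup.commutator_le]
    intro y _ y' _
    obtain ⟨w, hw⟩ := hsurj y
    obtain ⟨w', hw'⟩ := hsurj y'
    have e1 : y = φ w * (φ w⁻¹ * y) := by rw [map_inv]; group
    have e2 : y' = φ w' * (φ w'⁻¹ * y') := by rw [map_inv]; group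
    have key : ∀ a b k l : Γs, k ∈ Subgroup.center Γs → l ∈ Subgroup.center Γs →
        ⁅a * k, b * l⁆ = ⁅a, b⁆ := by
      intro a b k l hk hl
      rw [commutatorElement_def, commutatorElement_def]
      calc a * k * (b * l) * (a * k)⁻¹ * (b * l)⁻¹
          = a * (k * (b * l) * k⁻¹) * a⁻¹ * (b * l)⁻¹ := by group
        _ = a * (b * l) * a⁻¹ * (b * l)⁻¹ := by
            rw [← Subgroup.mem_center_iff.mp hk (b * l), mul_inv_cancel_right]
        _ = a * b * (l * a⁻¹ * l⁻¹) * b⁻¹ := by group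
        _ = a * b * a⁻¹ * b⁻¹ := by
            rw [← Subgroup.mem_center_iff.mp hl a⁻¹, mul_inv_cancel_right]
    rw [e1, e2, key _ _ _ _ hw hw']
    exact Subgroup.commutator_mem_commutator (Subgroup.mem_map_of_mem φ trivial)
      (Subgroup.mem_map_of_mem φ trivial)
  obtain ⟨w, hw, hwx⟩ := hcle (hcomm (Subgroup.mem_map_of_mem ι hx'))
  have hψw : ψ w = 1 := by
    have : commutator (FreeGroup α) ≤ ψ.ker := Abelianization.commutator_subset_ker ψ
    exact this hw
  have hwn : w ∈ Subgroup.normalClosure rels := by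
    have h1 : PresentedGroup.mk rels w = 1 := by
      rw [← hcomp, MonoidHom.comp_apply, hwx, hι]; exact hx
    exact PresentedGroup.mk_eq_one_iff.mp h1
  let Φ : FreeGroup α →* Γs × A := φ.prod ψ
  let K : Subgroup (Γs × A) := L ⊓ (Subgroup.center Γs).prod ⊤
  haveI : K.Normal := ⟨fun k hk y => by
    have hkc : k.1 ∈ Subgroup.center Γs := (Subgroup.mem_prod.mp hk.2).1
    have : y * k * y⁻¹ = k := by
      rw [mul_inv_eq_iff_eq_mul]
      exact Prod.ext (Subgroup.mem_center_iff.mp hkc y.1) (mul_comm _ _)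
    rw [this]; exact hk⟩
  have hle : Subgroup.normalClosure rels ≤ K.comap Φ := by
    refine Subgroup.normalClosure_le_normal fun r hr => ⟨hL r hr, Subgroup.mem_prod.mpr ⟨hc ?_, trivial⟩⟩
    show σs (φ r) = 1
    rw [← MonoidHom.comp_apply, hcomp]
    exact PresentedGroup.one_of_mem hr
  have h2 : Φ w ∈ K := hle hwn
  have h3 : Φ w = (ι x, 1) := Prod.ext hwx hψw
  exact (h3 ▸ h2).1

end Cfsg.Agent.CoxStem
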