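/-
Coxeter-type involutive lifts in an extension of a stem extension.

Main result: `exists_frame`.
-/
import Cfsg.Agent.Lib.CoxStem.Basic

set_option autoImplicit false
set_option linter.style.haveILetI false

namespace Cfsg.Agent.CoxStem

/-- One round of growing a set of nodes along the edges. -/
def grow (T : List (ℕ × ℕ)) (S : List ℕ) : List ℕ :=
  S ++ T.flatMap fun e => (if S.any (Nat.beq e.1) then [e.2] else []) ++ (if S.any (Nat.beq e.2) then [e.1] else [])

/-- All nodes below `N` are reached from `r`. -/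
def connOK (T : List (ℕ × ℕ)) (N r : ℕ) : Bool :=
  (List.range N).all fun k => ((grow T)^[N] [r]).any (Nat.beq k)

/-- Properties spread along the edges. -/
theorem forall_of_conn {T : List (ℕ × ℕ)} {N r : ℕ} (h : connOK T N r = true) {P : ℕ → Prop} (hr : P r)
    (hT : ∀ e ∈ T, P e.1 ↔ P e.2) : ∀ k < N, P k := by
  have main : ∀ n, ∀ k ∈ (grow T)^[n] [r], P k := by
    intro n
    induction n with
    | zero => intro k hk; simp only [Function.iterate_zero, id_eq, List.mem_singleton] at hk; subst hk; exact hr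
    | succ n ih =>
      intro k hk
      rw [Function.iterate_succ_apply', grow, List.mem_append, List.mem_flatMap] at hk
      rcases hk with hk | ⟨e, he, hk⟩
      · exact ih k hk
      rcases List.mem_append.mp hk with hk | hk
      all_goals
        split_ifs at hk with hany
        · simp only [List.mem_singleton] at hk
          obtain ⟨x, hx, hxe⟩ := List.any_eq_true.mp hany
          have := ih x hx
          rw [← Nat.eq_of_beq_eq_true hxe] at this
          subst hk
          first
            | exact (hT e he).mp this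
            | exact (hT e he).mpr this
        · simp at hk
  intro k hk
  have := List.all_eq_true.mp h k (List.mem_range.mpr hk)
  obtain ⟨x, hx, hxe⟩ := List.any_eq_true.mp this
  rw [Nat.eq_of_beq_eq_true hxe]
  exact main N x hx

/-- A central factor collected from three factors. -/
theorem mul_central_three {H : Type*} [Group H] {z : H} (hz : ∀ a : H, a * z = z * a) (a b c : H) :
    a * z * (b * z) * (c * z) = a * b * c * (z * z * z) := by
  have h2 : ∀ u v : H, u * z * (v * z) = u * v * (z * z) := fun u v => by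
    calc u * z * (v * z) = u * (z * v) * z := by group
      _ = u * (v * z) * z := by rw [hz v]
      _ = u * v * (z * z) := by group
  calc a * z * (b * z) * (c * z) = a * b * (z * (z * c)) * z := by rw [h2 a b]; group
    _ = a * b * (c * z * z) * z := by rw [← hz c, ← mul_assoc z c z, ← hz c]
    _ = a * b * c * (z * z * z) := by group

/-- The lifts of Coxeter generators of a 3-transposition type group: in an extension containing a given stem
extension with the same commutator subgroup they satisfy the Coxeter relations. -/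
theorem exists_frame {Γ : Type} {G : Type*} [Group Γ] [Finite Γ] [Group G] (σ : Γ →* G)
    (hs : Function.Surjective σ) (hc : σ.ker ≤ Subgroup.center Γ) (g : ℕ → G) (T : List (ℕ × ℕ)) (N r : ℕ)
    (hrN : r < N) (hTN : T.all (fun e => Nat.blt e.1 N && Nat.blt e.2 N) = true) (htree : treeOK T = true)
    (hconn : connOK T N r = true) (hsq : ∀ k, g k * g k = 1) (hout : ∀ k, N ≤ k → g k = 1)
    (hbraid : ∀ e ∈ T, g e.1 * g e.2 * g e.1 = g e.2 * g e.1 * g e.2)
    (hcomm : ∀ x y, x ≠ y → adjB T x y = false → g x * g y = g y * g x)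
    (z0 : G) (C : Subgroup G) (hC : ∀ y, y * z0 = z0 * y → y ∈ C) (hC' : ∀ y ∈ C, y * z0 = z0 * y)
    (hidx : ∀ L : Subgroup C, L.index ≠ 2) (hz0 : IsConj z0 (g r)) :
    ∃ (Γs : Type) (_ : Group Γs) (_ : Finite Γs) (σs : Γs →* G) (ι : Γ →* Γs) (X : ℕ → Γs),
      Function.Surjective σs ∧ σs.ker ≤ Subgroup.center Γs ∧ Function.Injective ι ∧ (∀ x, σs (ι x) = σ x) ∧
      (commutator Γ).map ι ≤ commutator Γs ∧ (∀ k, σs (X k) = g k) ∧ (∀ k, N ≤ k → X k = 1) ∧ Rel T X := by
  classical
  simp only [List.all_eq_true, Bool.and_eq_true, Nat.blt_eq] at hTN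
  obtain ⟨X0, hX0, hT0⟩ := exists_lifts σ hs hc g T htree hbraid
  have hz : X0 r * X0 r ∈ σ.ker := by rw [MonoidHom.mem_ker, map_mul, hX0, hsq]
  obtain ⟨Γs, iG, iF, σs, ι, ζ, hsurj, hcs, hinj, hι, hζ, hζ2, hcm⟩ :=
    exists_sqrt_ext σ hs hc (X0 r * X0 r) hz
  have hsame : ∀ k < N, X0 k * X0 k = X0 r * X0 r :=
    forall_of_conn (P := fun k => X0 k * X0 k = X0 r * X0 r) hconn rfl fun e he => by
      have hc1 : X0 e.1 * X0 e.1 ∈ Subgroup.center Γ := hc (by rw [MonoidHom.mem_ker, map_mul, hX0, hsq])
      rw [sq_eq_of_isConj (hT0 e he).2 hc1]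
  have hclass : ∀ k < N, IsConj z0 (g k) :=
    forall_of_conn (P := fun k => IsConj z0 (g k)) hconn hz0 fun e he => by
      have he' : IsConj (g e.1) (g e.2) := by
        have := σ.map_isConj (hT0 e he).2
        rwa [hX0, hX0] at this
      exact ⟨fun h => h.trans he', fun h => h.trans he'.symm⟩
  let X : ℕ → Γs := fun k => if k < N then ι (X0 k) * ζ⁻¹ else 1
  have hζc : ζ⁻¹ ∈ Subgroup.center Γs := inv_mem (hcs hζ)
  have hXσ : ∀ k, σs (X k) = g k := by
    intro k
    by_cases hk : k < N
    · simp only [X, if_pos hk, map_mul, map_inv, hι, hX0, MonoidHom.mem_ker.mp hζ, inv_one, mul_one]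
    · simp only [X, if_neg hk, map_one, hout k (not_lt.mp hk)]
  have hsq' : ∀ k, X k * X k = 1 := by
    intro k
    by_cases hk : k < N
    · simp only [X, if_pos hk]
      calc ι (X0 k) * ζ⁻¹ * (ι (X0 k) * ζ⁻¹) = ι (X0 k) * (ζ⁻¹ * ι (X0 k)) * ζ⁻¹ := by group
        _ = ι (X0 k) * ι (X0 k) * (ζ * ζ)⁻¹ := by rw [← Subgroup.mem_center_iff.mp hζc (ι (X0 k))]; group
        _ = 1 := by rw [← map_mul, hsame k hk, hζ2, mul_inv_cancel]
    · simp only [X, if_neg hk, mul_one]
  refine ⟨Γs, iG, iF, σs, ι, X, hsurj, hcs, hinj, hι, hcm, hXσ, fun k hk => if_neg (not_lt.mpr hk), hsq', fun e he => ?_, fun x y hxy ha => ?_⟩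
  · obtain ⟨h1, h2⟩ := hTN e he
    simp only [X, if_pos h1, if_pos h2]
    rw [mul_central_three (Subgroup.mem_center_iff.mp hζc), mul_central_three (Subgroup.mem_center_iff.mp hζc),
      ← map_mul, ← map_mul, (hT0 e he).1, map_mul, map_mul]
  · by_cases hx : x < N
    · exact commute_lifts σs hsurj hcs z0 C hC hC' hidx _ _ (by rw [hXσ]; exact hclass x hx) (hsq' x)
        (by rw [hXσ, hXσ, hcomm x y hxy ha])
    · simp only [X, if_neg hx, one_mul, mul_one]

end Cfsg.Agent.CoxStem
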