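/-
The relators of a Coxeter graph presentation and their values at lifts.

Main results: `gen_rels`, `cox_value`, `lift_value_central`, `index_ne_two`, `rel_comp`.
-/
import Cfsg.Agent.Lib.CoxStem.Frame
import Cfsg.Prelude.Def_SporCoxeter

set_option autoImplicit false

namespace Cfsg.Agent.CoxStem

open Cfsg.Spor

variable {α : Type} [DecidableEq α]

/-- The labels of the graph agree with an edge list on numbered nodes. -/
def graphOK (edges : List (α × ℕ × α)) (gen : ℕ → α) (T : List (ℕ × ℕ)) (N : ℕ) : Bool :=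
  (List.range N).all fun x => decide (gen x ∈ coxNodes edges) &&
    (List.range N).all fun y =>
      Nat.beq (coxLabel edges (gen x) (gen y)) (if Nat.beq x y then 1 else if adjB T x y then 3 else 2)

theorem graph_spec {edges : List (α × ℕ × α)} {gen : ℕ → α} {T : List (ℕ × ℕ)} {N : ℕ}
    (h : graphOK edges gen T N = true) {x y : ℕ} (hx : x < N) (hy : y < N) :
    gen x ∈ coxNodes edges ∧
      coxLabel edges (gen x) (gen y) = if x = y then 1 else if adjB T x y then 3 else 2 := by
  simp only [graphOK, List.all_eq_true, List.mem_range, Bool.and_eq_true, decide_eq_true_eq] at h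
  obtain ⟨h1, h2⟩ := h x hx
  refine ⟨h1, ?_⟩
  rw [Nat.eq_of_beq_eq_true (h2 y hy)]
  by_cases hxy : x = y
  · simp [hxy]
  · have : Nat.beq x y = false := Bool.eq_false_iff.mpr fun e => hxy (Nat.eq_of_beq_eq_true e)
    simp [hxy, this]

theorem braid_of_pow {H : Type*} [Group H] {a b : H} (ha : a * a = 1) (hb : b * b = 1) (h : (a * b) ^ 3 = 1) :
    a * b * a = b * a * b := by
  have h' : a * b * a * (b * a * b) = 1 := by rw [← h, pow_succ, pow_two]; group
  rw [eq_inv_of_mul_eq_one_left h', mul_inv_rev, mul_inv_rev, ← eq_inv_of_mul_eq_one_left ha,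
    ← eq_inv_of_mul_eq_one_left hb, mul_assoc]

theorem comm_of_pow {H : Type*} [Group H] {a b : H} (ha : a * a = 1) (hb : b * b = 1) (h : (a * b) ^ 2 = 1) :
    a * b = b * a := by
  rw [pow_two] at h
  rw [eq_inv_of_mul_eq_one_left h, mul_inv_rev, ← eq_inv_of_mul_eq_one_left ha,
    ← eq_inv_of_mul_eq_one_left hb]

/-- The generators satisfy the relations of the edge list. -/
theorem gen_rels {edges : List (α × ℕ × α)} {gen : ℕ → α} {T : List (ℕ × ℕ)} {N : ℕ}
    {extra : Set (FreeGroup α)} (h : graphOK edges gen T N = true)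
    (g : ℕ → PresentedGroup (coxRelators edges ∪ extra))
    (hg : ∀ k < N, g k = PresentedGroup.of (gen k)) (hout : ∀ k, N ≤ k → g k = 1)
    (hTN : T.all (fun e => Nat.blt e.1 N && Nat.blt e.2 N) = true) (hloop : T.all (fun e => !Nat.beq e.1 e.2) = true) :
    (∀ k, g k * g k = 1) ∧ (∀ e ∈ T, g e.1 * g e.2 * g e.1 = g e.2 * g e.1 * g e.2) ∧
      ∀ x y, x ≠ y → adjB T x y = false → g x * g y = g y * g x := by
  simp only [List.all_eq_true, Bool.and_eq_true, Nat.blt_eq] at hTN
  simp only [List.all_eq_true, Bool.not_eq_true'] at hloop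
  have hpow : ∀ x y, x < N → y < N → (g x * g y) ^ (if x = y then 1 else if adjB T x y then 3 else 2) = 1 := by
    intro x y hx hy
    obtain ⟨h1, h2⟩ := graph_spec h hx hy
    obtain ⟨h3, -⟩ := graph_spec h hy hx
    have := PresentedGroup.one_of_mem (rels := coxRelators edges ∪ extra)
      (x := (FreeGroup.of (gen x) * FreeGroup.of (gen y)) ^ coxLabel edges (gen x) (gen y))
      (Or.inl ⟨_, h1, _, h3, rfl⟩)
    rw [map_pow, map_mul, h2] at this
    rw [hg x hx, hg y hy]
    exact this
  have hsq : ∀ k, g k * g k = 1 := by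
    intro k
    by_cases hk : k < N
    · simpa using hpow k k hk hk
    · rw [hout k (not_lt.mp hk), mul_one]
  refine ⟨hsq, fun e he => ?_, fun x y hxy ha => ?_⟩
  · obtain ⟨h1, h2⟩ := hTN e he
    have hne : e.1 ≠ e.2 := fun heq => by
      have := hloop e he
      simp [heq] at this
    have hadj : adjB T e.1 e.2 = true := by
      simp only [adjB, List.any_eq_true]
      exact ⟨e, he, by simp⟩
    have := hpow e.1 e.2 h1 h2
    rw [if_neg hne, if_pos hadj] at this
    exact braid_of_pow (hsq _) (hsq _) this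
  · by_cases hx : x < N
    · by_cases hy : y < N
      · have := hpow x y hx hy
        rw [if_neg hxy, if_neg (by simp [ha])] at this
        exact comm_of_pow (hsq _) (hsq _) this
      · rw [hout y (not_lt.mp hy), one_mul, mul_one]
    · rw [hout x (not_lt.mp hx), one_mul, mul_one]

/-- Coxeter relators vanish at lifts satisfying the relations, and at a constant involution. -/
theorem cox_value {edges : List (α × ℕ × α)} {gen : ℕ → α} {T : List (ℕ × ℕ)} {N : ℕ}
    (h : graphOK edges gen T N = true) (idx : α → ℕ) (hidx : ∀ a, idx a < N ∧ gen (idx a) = a)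
    {H : Type*} [Group H] {X : ℕ → H} (hX : Rel T X) {A : Type*} [CommGroup A] {p : A} (hp : p * p = 1)
    {r : FreeGroup α} (hr : r ∈ coxRelators edges) :
    FreeGroup.lift (fun a => X (idx a)) r = 1 ∧ FreeGroup.lift (fun _ : α => p) r = 1 := by
  obtain ⟨a, -, b, -, rfl⟩ := hr
  refine ⟨?_, by simp [hp]⟩
  rw [map_pow, map_mul, FreeGroup.lift_apply_of, FreeGroup.lift_apply_of,
    ← (hidx a).2, ← (hidx b).2, (graph_spec h (hidx a).1 (hidx b).1).2, (hidx a).2, (hidx b).2]
  split_ifs with h1 h2
  · rw [h1, pow_one, hX.sq]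
  · have hb := hX.braid' h2
    rw [pow_succ, pow_two]
    calc X (idx a) * X (idx b) * (X (idx a) * X (idx b)) * (X (idx a) * X (idx b))
        = (X (idx a) * X (idx b) * X (idx a)) * (X (idx b) * X (idx a) * X (idx b)) := by group
      _ = (X (idx b) * X (idx a) * X (idx b)) * (X (idx b) * X (idx a) * X (idx b)) := by rw [hb]
      _ = X (idx b) * (X (idx a) * (X (idx b) * X (idx b)) * X (idx a)) * X (idx b) := by group
      _ = 1 := by rw [hX.sq, mul_one, hX.sq, mul_one, hX.sq]
  · rw [pow_two, hX.comm _ _ h1 (by simpa using h2)]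
    calc X (idx b) * X (idx a) * (X (idx b) * X (idx a))
        = X (idx b) * (X (idx a) * X (idx b)) * X (idx a) := by group
      _ = X (idx b) * (X (idx b) * X (idx a)) * X (idx a) := by rw [hX.comm _ _ h1 (by simpa using h2)]
      _ = (X (idx b) * X (idx b)) * (X (idx a) * X (idx a)) := by group
      _ = 1 := by rw [hX.sq, hX.sq, mul_one]

/-- Relators have central values at lifts. -/
theorem lift_value_central {rels : Set (FreeGroup α)} {Γs : Type*} [Group Γs]
    (σs : Γs →* PresentedGroup rels) (hc : σs.ker ≤ Subgroup.center Γs) (X : α → Γs)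
    (hX : ∀ a, σs (X a) = PresentedGroup.of a) {r : FreeGroup α} (hr : r ∈ rels) :
    FreeGroup.lift X r ∈ Subgroup.center Γs := by
  refine hc ?_
  have : σs.comp (FreeGroup.lift X) = PresentedGroup.mk rels := by
    ext a
    simp [hX, PresentedGroup.of]
  rw [MonoidHom.mem_ker, ← MonoidHom.comp_apply, this]
  exact PresentedGroup.one_of_mem hr

/-- No index two without a homomorphism onto a group of order two. -/
theorem index_ne_two {H : Type*} [Group H] (h : ∀ χ : H →* Multiplicative (ZMod 2), χ = 1) (L : Subgroup H) :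
    L.index ≠ 2 := by
  intro hL
  haveI : L.Normal := Subgroup.normal_of_index_eq_two hL
  haveI : Fact (Nat.Prime 2) := ⟨Nat.prime_two⟩
  have hc : Nat.card (H ⧸ L) = 2 := hL
  let E : H ⧸ L ≃* Multiplicative (ZMod 2) := mulEquivOfPrimeCardEq hc (by simp)
  have h1 := h (E.toMonoidHom.comp (QuotientGroup.mk' L))
  haveI : Subsingleton (H ⧸ L) := ⟨fun a b => E.injective (by
    obtain ⟨a, rfl⟩ := QuotientGroup.mk'_surjective L a
    obtain ⟨b, rfl⟩ := QuotientGroup.mk'_surjective L b
    exact (DFunLike.congr_fun h1 a).trans (DFunLike.congr_fun h1 b).symm)⟩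
  rw [Nat.card_of_subsingleton (1 : H ⧸ L)] at hc
  omega

/-- Relations pulled back along a map of nodes. -/
theorem rel_comp {H : Type*} [Group H] {T T' : List (ℕ × ℕ)} {X : ℕ → H} (hX : Rel T X) (m : ℕ → ℕ) (N : ℕ)
    (hedge : T'.all (fun e => adjB T (m e.1) (m e.2)) = true)
    (hout : ∀ k, N ≤ k → X (m k) = 1)
    (hnon : ((List.range N).all fun x => (List.range N).all fun y =>
      Nat.beq x y || adjB T' x y || (!adjB T (m x) (m y) && !Nat.beq (m x) (m y))) = true) :
    Rel T' (fun k => X (m k)) := by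
  refine ⟨fun x => hX.sq _, fun e he => hX.braid' (List.all_eq_true.mp hedge e he), fun x y hxy ha => ?_⟩
  by_cases hx : x < N
  · by_cases hy : y < N
    · have h := List.all_eq_true.mp (List.all_eq_true.mp hnon x (List.mem_range.mpr hx)) y (List.mem_range.mpr hy)
      simp only [ha, Bool.or_false, Bool.or_eq_true, Bool.and_eq_true, Bool.not_eq_true'] at h
      rcases h with h | ⟨h1, h2⟩
      · exact absurd (Nat.eq_of_beq_eq_true h) hxy
      · refine hX.comm _ _ (fun e => ?_) h1
        simp [e] at h2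
    · rw [hout y (not_lt.mp hy), one_mul, mul_one]
  · rw [hout x (not_lt.mp hx), one_mul, mul_one]

end Cfsg.Agent.CoxStem
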