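/-
The spider power and the Coxeter element of type E7 when their powers are central.

Main results: `spider_cube`, `e7_sq`, `comm_eq_spider`.
-/
import Cfsg.Agent.Lib.CoxStem.Data
import Cfsg.Agent.Lib.CoxStem.Moves

set_option autoImplicit false
set_option maxRecDepth 10000

namespace Cfsg.Agent.CoxStem

/-- The edges of Y332: nodes 0,…,6 in a line, 7 on 3, 8 on 7. -/
def edges22 : List (ℕ × ℕ) := [(0, 1), (1, 2), (5, 6), (4, 5), (7, 8), (3, 2), (3, 4), (3, 7)]

/-- The spider word. -/
def spider : List ℕ := [3, 2, 1, 3, 4, 5, 3, 7, 8]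

/-- The Coxeter element of type E7. -/
def e7Word : List ℕ := [0, 1, 2, 3, 4, 5, 7]

/-- The second Coxeter element of type E7. -/
def e7Word' : List ℕ := [1, 2, 3, 4, 5, 6, 7]

/-- The tenth power of the spider word. -/
def spiderPow : List ℕ := (List.replicate 10 spider).flatten

theorem items_red : (redMoves.map fun s =>
    run (adjB edges22) (spiderPow ++ [s.1] ++ spiderPow.reverse ++ [s.1]) s.2) =
      ([1, 3, 5, 6, 7].map fun i => some (items.getD i [])) := by
  decide +kernel

theorem items_inv : (items.getD 0 [] == spiderPow && items.getD 2 [] == (items.getD 1 []).reverse &&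
    items.getD 4 [] == (items.getD 3 []).reverse && items.getD 9 [] == [3, 4] ++ items.getD 4 [] ++ [4, 3] &&
    items.getD 10 [] == (items.getD 5 []).reverse && items.getD 11 [] == (items.getD 6 []).reverse &&
    items.getD 12 [] == (items.getD 7 []).reverse) = true := by
  decide +kernel

theorem cube_check : chain (adjB edges22) items [] cubeSteps = some [] ∧
    cubeSteps.map (·.1) = [2, 4, 0, 9, 4, 2, 12, 0, 4, 2, 10, 0, 11, 12] := by
  decide +kernel

theorem comm_check : chain (adjB edges22) items [] commSteps = some commEnd ∧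
    commSteps.map (·.1) = [2, 4, 0, 9, 5] ∧
    run (adjB edges22) (transWord ++ [4, 5, 7, 8] ++ transWord.reverse ++ [8, 7, 5, 4] ++ commEnd.reverse) commMoves
      = some [] := by
  decide +kernel

theorem e7_check : run (adjB edges22) (e7Conj ++ e7Word ++ e7Conj.reverse ++ e7Word) e7Moves = some [] := by
  decide +kernel

section

variable {H : Type*} [Group H] {X : ℕ → H}

theorem wd_flatten_replicate (w : List ℕ) : ∀ n : ℕ, wd X (List.replicate n w).flatten = wd X w ^ n
  | 0 => by simp [wd_nil]
  | n + 1 => by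
    rw [List.replicate_succ, List.flatten_cons, wd_append, wd_flatten_replicate w n, pow_succ']

variable (h : Rel edges22 X) (hc : wd X spider ^ 10 ∈ Subgroup.center H)

include h hc in
theorem wd_items : (∀ i ∈ [2, 4, 5, 9, 10, 11, 12], wd X (items.getD i []) = 1) ∧
    wd X (items.getD 0 []) = wd X spider ^ 10 := by
  have hC : wd X spiderPow = wd X spider ^ 10 := wd_flatten_replicate spider 10
  have hP : ∀ k, wd X (spiderPow ++ [k] ++ spiderPow.reverse ++ [k]) = 1 := by
    intro k
    rw [wd_append, wd_append, wd_append, h.wd_reverse, hC, wd_cons, wd_nil, mul_one]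
    rw [← Subgroup.mem_center_iff.mp hc (X k), mul_inv_cancel_right, h.sq]
  have hinv := items_inv
  simp only [Bool.and_eq_true, beq_iff_eq] at hinv
  obtain ⟨⟨⟨⟨⟨⟨h0, h2⟩, h4⟩, h9⟩, h10⟩, h11⟩, h12⟩ := hinv
  have hred : ∀ i ∈ [1, 3, 5, 6, 7], wd X (items.getD i []) = 1 := by
    intro i hi
    have hmem : some (items.getD i []) ∈ [1, 3, 5, 6, 7].map fun i => some (items.getD i []) :=
      List.mem_map.mpr ⟨i, hi, rfl⟩
    rw [← items_red] at hmem
    obtain ⟨s, -, hs⟩ := List.mem_map.mp hmem
    rw [wd_run h hs, hP]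
  have r1 := hred 1 (by decide)
  have r3 := hred 3 (by decide)
  have r5 := hred 5 (by decide)
  have r6 := hred 6 (by decide)
  have r7 := hred 7 (by decide)
  have e4 : wd X (items.getD 4 []) = 1 := by rw [h4, h.wd_reverse, r3, inv_one]
  refine ⟨?_, by rw [h0, hC]⟩
  intro i hi
  simp only [List.mem_cons, List.not_mem_nil, or_false] at hi
  rcases hi with rfl | rfl | rfl | rfl | rfl | rfl | rfl
  · rw [h2, h.wd_reverse, r1, inv_one]
  · exact e4
  · exact r5
  · rw [h9, wd_append, wd_append, e4, mul_one, show [4, 3] = [3, 4].reverse from rfl, h.wd_reverse, mul_inv_cancel]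
  · rw [h10, h.wd_reverse, r5, inv_one]
  · rw [h11, h.wd_reverse, r6, inv_one]
  · rw [h12, h.wd_reverse, r7, inv_one]

include h hc in
/-- A central spider power has order dividing three. -/
theorem spider_cube : (wd X spider ^ 10) ^ 3 = 1 := by
  obtain ⟨hone, h0⟩ := wd_items h hc
  simp only [List.forall_mem_cons, List.not_mem_nil, IsEmpty.forall_iff, implies_true, and_true] at hone
  obtain ⟨h2, h4, h5, h9, h10, h11, h12⟩ := hone
  have h1 := wd_chain h cube_check.1
  rw [wd_nil, one_mul, show (cubeSteps.map fun s => wd X (items.getD s.1 [])) =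
    (cubeSteps.map (·.1)).map (fun i => wd X (items.getD i [])) by rw [List.map_map]; rfl, cube_check.2] at h1
  simp only [List.map_cons, List.map_nil, List.prod_cons, List.prod_nil, h0, h2, h4, h9, h10, h11, h12,
    one_mul, mul_one] at h1
  rw [pow_succ, pow_two, mul_assoc]
  exact h1.symm

include h hc in
/-- The commutator of a translation and an element of order three is the spider power. -/
theorem comm_eq_spider :
    wd X transWord * wd X [4, 5, 7, 8] * (wd X transWord)⁻¹ * (wd X [4, 5, 7, 8])⁻¹ = wd X spider ^ 10 := by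
  obtain ⟨hone, h0⟩ := wd_items h hc
  simp only [List.forall_mem_cons, List.not_mem_nil, IsEmpty.forall_iff, implies_true, and_true] at hone
  obtain ⟨h2, h4, h5, h9, h10, h11, h12⟩ := hone
  have h1 := wd_chain h comm_check.1
  rw [wd_nil, one_mul, show (commSteps.map fun s => wd X (items.getD s.1 [])) =
    (commSteps.map (·.1)).map (fun i => wd X (items.getD i [])) by rw [List.map_map]; rfl, comm_check.2.1] at h1
  simp only [List.map_cons, List.map_nil, List.prod_cons, List.prod_nil, h0, h2, h4, h5, h9, one_mul, mul_one] at h1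
  have h3 := wd_eq_one_of_run h comm_check.2.2
  rw [show [8, 7, 5, 4] = [4, 5, 7, 8].reverse from rfl, wd_append, wd_append, wd_append, wd_append, h.wd_reverse,
    h.wd_reverse, h.wd_reverse, mul_inv_eq_one, h1] at h3
  exact h3

include h in
/-- A central ninth power of the Coxeter element is an involution or trivial. -/
theorem e7_sq (hc7 : wd X e7Word ^ 9 ∈ Subgroup.center H) : (wd X e7Word ^ 9) ^ 2 = 1 := by
  have h1 := wd_eq_one_of_run h e7_check
  rw [wd_append, wd_append, wd_append, h.wd_reverse] at h1
  set W := wd X e7Word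
  set U := wd X e7Conj
  have h2 : U * W * U⁻¹ = W⁻¹ := eq_inv_of_mul_eq_one_left h1
  have h3 : (W ^ 9)⁻¹ = W ^ 9 := by
    calc (W ^ 9)⁻¹ = (W⁻¹) ^ 9 := (inv_pow W 9).symm
      _ = U * W ^ 9 * U⁻¹ := by rw [← h2, conj_pow]
      _ = W ^ 9 := by rw [Subgroup.mem_center_iff.mp hc7 U, mul_inv_cancel_right]
  rw [pow_two]
  exact inv_eq_iff_mul_eq_one.mp h3

end

end Cfsg.Agent.CoxStem
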