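/-
Stem extensions of the presented group Fi22 have cyclic kernels of order dividing six.

Main result: `fi22_stem_bound`.
-/
import Cfsg.Agent.Lib.CoxStem.Cox
import Cfsg.Agent.Lib.CoxStem.Spider
import Cfsg.Agent.Lib.Fi22U62.Transpositions

set_option autoImplicit false
set_option maxRecDepth 10000
set_option linter.style.haveILetI false

namespace Cfsg.Agent.CoxStem

open Cfsg.Agent.CosetEnum Cfsg.Agent.CosetEnum.Data

/-- The generator of a number. -/
def gen22 (k : ℕ) : Cfsg.Spor.Fi22.Gen := (fi22Setup.lt.getD k (.a, true)).1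

/-- The number of a generator. -/
def idx22 : Cfsg.Spor.Fi22.Gen → ℕ
  | .a => 0 | .b => 1 | .c => 2 | .d => 3 | .e => 4 | .f => 5 | .g => 6 | .h => 7 | .i => 8

theorem idx22_spec (a : Cfsg.Spor.Fi22.Gen) : idx22 a < 9 ∧ gen22 (idx22 a) = a := by
  cases a <;> exact ⟨by decide, rfl⟩

theorem graph22 : graphOK Cfsg.Spor.Fi22.edges gen22 edges22 9 = true := by decide +kernel

theorem el22_out {k : ℕ} (hk : 9 ≤ k) : fi22Setup.el k = 1 := by
  rw [Setup.el, List.getElem?_eq_none (by exact hk)]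

theorem el22_gen {k : ℕ} (hk : k < 9) : fi22Setup.el k = PresentedGroup.of (gen22 k) := by
  interval_cases k <;> rfl

/-- The edges of Y332 as a tree grown from the centre. -/
def tree22 : List (ℕ × ℕ) := [(1, 0), (2, 1), (5, 6), (4, 5), (7, 8), (3, 2), (3, 4), (3, 7)]

/-- The reflection of Y332 exchanging the long arms. -/
def swap22 (k : ℕ) : ℕ := if k < 7 then 6 - k else k

theorem graph22' : graphOK Cfsg.Spor.Fi22.edges gen22 tree22 9 = true := by decide +kernel

/-- Elements of a cyclic group of order dividing `n` lift a surjection from integers mod `n`. -/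
theorem exists_surj_of_zpowers {K : Type*} [Group K] (n : ℕ) (g : K) (hg : g ^ n = 1)
    (hgen : ∀ x : K, x ∈ Subgroup.zpowers g) :
    ∃ π : Multiplicative (ZMod n) →* K, Function.Surjective π := by
  let e : ℤ →+ Additive K := zmultiplesHom (Additive K) (Additive.ofMul g)
  have he : e n = 0 := by
    show (n : ℤ) • Additive.ofMul g = 0
    rw [natCast_zsmul, ← ofMul_pow, hg, ofMul_one]
  refine ⟨AddMonoidHom.toMultiplicativeLeft (ZMod.lift n ⟨e, he⟩), fun x => ?_⟩
  obtain ⟨m, rfl⟩ := Subgroup.mem_zpowers_iff.mp (hgen x)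
  refine ⟨Multiplicative.ofAdd (m : ZMod n), ?_⟩
  show Additive.toMul (ZMod.lift n ⟨e, he⟩ (m : ZMod n)) = g ^ m
  rw [ZMod.lift_coe]
  rfl

/-- Stem extensions of Fi22 have kernels that are images of the integers mod six. -/
theorem fi22_stem_bound {Γ : Type} [Group Γ] [Finite Γ] (σ : Γ →* Cfsg.Spor.Fi22) (hσ : Cfsg.IsStemExtension σ) :
    ∃ π : Multiplicative (ZMod 6) →* σ.ker, Function.Surjective π := by
  obtain ⟨hs, hc, hcom⟩ := hσ
  have hTN : tree22.all (fun e => Nat.blt e.1 9 && Nat.blt e.2 9) = true := by decide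
  have hrel := gen_rels (extra := {r | r ∈ Cfsg.Spor.Fi22.extra}) (T := tree22) graph22' fi22Setup.el
    (fun k hk => el22_gen hk) (fun k hk => el22_out hk) hTN (by decide)
  obtain ⟨Γs, iG, iF, σs, ι, X, hsurj, hcs, hinj, hι, hcm, hX, hX1, hR0⟩ :=
    exists_frame (G := fi22Setup.G) σ hs hc fi22Setup.el tree22 9 0 (by norm_num) hTN (by decide) (by decide)
      hrel.1 (fun k hk => el22_out hk) hrel.2.1 hrel.2.2 Fi22U62.z0 Fi22U62.Hs
      (fun y hy => by
        rw [← Fi22U62.centralizer_z0, Subgroup.mem_centralizer_singleton_iff]; exact hy)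
      (fun y hy => Fi22U62.z0_comm hy) (index_ne_two Fi22U62.hom_eq_one) (IsConj.refl _)
  have hR : Rel edges22 X := rel_comp hR0 (fun k => k) 9 (by decide) hX1 (by decide)
  set X' : Cfsg.Spor.Fi22.Gen → Γs := fun a => X (idx22 a) with hX'def
  have hX' : ∀ a, σs (X' a) = PresentedGroup.of a := fun a => by
    show σs (X (idx22 a)) = _
    rw [hX, el22_gen (idx22_spec a).1, (idx22_spec a).2]
  have hRs : Rel edges22 (fun k => X (swap22 k)) := rel_comp hR swap22 9 (by decide)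
    (fun k hk => hX1 _ (by unfold swap22; split_ifs <;> omega)) (by decide)
  have hs1 : FreeGroup.lift X' ((Cfsg.Spor.Fi22.d * Cfsg.Spor.Fi22.c * Cfsg.Spor.Fi22.b * Cfsg.Spor.Fi22.d *
      Cfsg.Spor.Fi22.e * Cfsg.Spor.Fi22.f * Cfsg.Spor.Fi22.d * Cfsg.Spor.Fi22.h * Cfsg.Spor.Fi22.i) ^ 10) =
      wd X spider ^ 10 := by
    simp [X', idx22, wd, spider, mul_assoc]
  have hs2 : FreeGroup.lift X' ((Cfsg.Spor.Fi22.a * Cfsg.Spor.Fi22.b * Cfsg.Spor.Fi22.c * Cfsg.Spor.Fi22.d *
      Cfsg.Spor.Fi22.e * Cfsg.Spor.Fi22.f * Cfsg.Spor.Fi22.h) ^ 9) = wd X e7Word ^ 9 := by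
    simp [X', idx22, wd, e7Word, mul_assoc]
  have hs3 : FreeGroup.lift X' ((Cfsg.Spor.Fi22.b * Cfsg.Spor.Fi22.c * Cfsg.Spor.Fi22.d * Cfsg.Spor.Fi22.e *
      Cfsg.Spor.Fi22.f * Cfsg.Spor.Fi22.g * Cfsg.Spor.Fi22.h) ^ 9) = wd X e7Word' ^ 9 := by
    simp [X', idx22, wd, e7Word', mul_assoc]
  have hC1 : wd X spider ^ 10 ∈ Subgroup.center Γs :=
    hs1 ▸ lift_value_central σs hcs X' hX' (Or.inr (show _ ∈ Cfsg.Spor.Fi22.extra by simp [Cfsg.Spor.Fi22.extra]))
  have hC2 : wd X e7Word ^ 9 ∈ Subgroup.center Γs :=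
    hs2 ▸ lift_value_central σs hcs X' hX' (Or.inr (show _ ∈ Cfsg.Spor.Fi22.extra by simp [Cfsg.Spor.Fi22.extra]))
  have hC3 : wd X e7Word' ^ 9 ∈ Subgroup.center Γs :=
    hs3 ▸ lift_value_central σs hcs X' hX' (Or.inr (show _ ∈ Cfsg.Spor.Fi22.extra by simp [Cfsg.Spor.Fi22.extra]))
  have h13 : (wd X spider ^ 10) ^ 3 = 1 := spider_cube hR hC1
  have h22 : (wd X e7Word ^ 9) ^ 2 = 1 := e7_sq hR hC2
  have h32 : (wd X e7Word' ^ 9) ^ 2 = 1 := by
    set A := X 7 with hA
    set V := wd X e7Word' with hV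
    set V' := wd (fun k => X (swap22 k)) e7Word with hV'
    have hAA : A * A = 1 := hR.sq 7
    have e1 : V' = A⁻¹⁻¹ * V⁻¹ * A⁻¹ := by
      have er : wd X [7, 1, 2, 3, 4, 5, 6] = V'⁻¹ := by
        rw [hV', ← hRs.wd_reverse]; rfl
      rw [← inv_inv V', ← er, hV]
      simp only [wd, e7Word', List.map_cons, List.map_nil, List.prod_cons, List.prod_nil, mul_one, ← hA]
      rw [eq_inv_of_mul_eq_one_left hAA]
      group
    have e2 : V' ^ 9 = A⁻¹⁻¹ * (V ^ 9)⁻¹ * A⁻¹ := by
      rw [e1, inv_inv A]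
      rw [conj_pow, inv_pow]
    have e3 : V' ^ 9 = (V ^ 9)⁻¹ := by
      rw [e2, inv_inv, Subgroup.mem_center_iff.mp (inv_mem hC3) A, mul_inv_cancel_right]
    have h := e7_sq hRs (by rw [← hV', e3]; exact inv_mem hC3)
    rw [← hV', e3, inv_pow, inv_eq_one] at h
    exact h
  set c1 := wd X spider ^ 10 with hc1
  set c2 := wd X e7Word ^ 9 with hc2
  set c3 := wd X e7Word' ^ 9 with hc3
  set u := c1 * (c2 * c3) with hu
  have hcomm2 : Commute c2 c3 := Subgroup.mem_center_iff.mp hC3 c2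
  have hcomm1 : Commute c1 (c2 * c3) := (Subgroup.mem_center_iff.mp (mul_mem hC2 hC3) c1)
  have h23 : (c2 * c3) ^ 2 = 1 := by rw [hcomm2.mul_pow, h22, h32, one_mul]
  have hu6 : u ^ 6 = 1 := by
    rw [hcomm1.mul_pow, show 6 = 3 * 2 from rfl, pow_mul c1, h13, one_pow, one_mul, mul_comm 3 2,
      pow_mul (c2 * c3), h23, one_pow]
  have hu4 : u ^ 4 = c1 := by
    rw [hcomm1.mul_pow, pow_succ c1 3, h13, one_mul, show 4 = 2 * 2 from rfl, pow_mul, h23, one_pow, mul_one]
  have hu3 : u ^ 3 = c2 * c3 := by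
    rw [hcomm1.mul_pow, h13, one_mul, pow_succ, h23, one_mul]
  have huc : u ∈ Subgroup.center Γs := mul_mem hC1 (mul_mem hC2 hC3)
  let p : Multiplicative (ZMod 2) := Multiplicative.ofAdd 1
  have hp : p * p = 1 := by decide
  let L : Subgroup (Γs × Multiplicative (ZMod 2)) := Subgroup.zpowers (u, 1) ⊔ Subgroup.zpowers (c2, p)
  have hkey : ∀ x ∈ σ.ker, ι x ∈ Subgroup.zpowers u := by
    intro x hx
    have hmem : (ι x, 1) ∈ L := by
      refine mem_of_relators σ σs hcs ι hι hcm X' hX' (fun _ : Cfsg.Spor.Fi22.Gen => p) L ?_ hx (hcom hx)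
      have hu1 : ((u, 1) : Γs × Multiplicative (ZMod 2)) ∈ L :=
        Subgroup.mem_sup_left (Subgroup.mem_zpowers _)
      have hm2 : ((c2, p) : Γs × Multiplicative (ZMod 2)) ∈ L :=
        Subgroup.mem_sup_right (Subgroup.mem_zpowers _)
      intro r hr
      rcases hr with hr | hr
      · obtain ⟨e1, e2⟩ := cox_value (A := Multiplicative (ZMod 2)) graph22 idx22 idx22_spec hR hp hr
        rw [hX'def, e1, e2]
        exact one_mem L
      · have hr' : r ∈ Cfsg.Spor.Fi22.extra := hr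
        simp only [Cfsg.Spor.Fi22.extra, List.mem_cons, List.not_mem_nil, or_false] at hr'
        rcases hr' with rfl | rfl | rfl
        · rw [hs1, show FreeGroup.lift (fun _ : Cfsg.Spor.Fi22.Gen => p) _ = (1 : Multiplicative (ZMod 2)) by
            simp only [map_pow, map_mul, FreeGroup.lift_apply_of]; decide, ← hu4]
          exact pow_mem hu1 4 |> fun h => by simpa using h
        · rw [hs2, show FreeGroup.lift (fun _ : Cfsg.Spor.Fi22.Gen => p) _ = p by
            simp only [map_pow, map_mul, FreeGroup.lift_apply_of]; decide]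
          exact hm2
        · rw [hs3, show FreeGroup.lift (fun _ : Cfsg.Spor.Fi22.Gen => p) _ = p by
            simp only [map_pow, map_mul, FreeGroup.lift_apply_of]; decide]
          have h := mul_mem hm2 (pow_mem hu1 3)
          rwa [Prod.pow_mk, one_pow, Prod.mk_mul_mk, mul_one, hu3, ← mul_assoc, ← pow_two, h22, one_mul] at h
    haveI : (Subgroup.zpowers ((u, 1) : Γs × Multiplicative (ZMod 2))).Normal := ⟨fun y hy w => by
      obtain ⟨k, rfl⟩ := Subgroup.mem_zpowers_iff.mp hy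
      have hz : ((u, 1) : Γs × Multiplicative (ZMod 2)) ^ k ∈ Subgroup.center _ := zpow_mem (by
        rw [Subgroup.mem_center_iff]
        exact fun v => Prod.ext (Subgroup.mem_center_iff.mp huc v.1) (mul_comm _ _)) k
      rw [Subgroup.mem_center_iff.mp hz w, mul_inv_cancel_right]
      exact Subgroup.zpow_mem_zpowers _ k⟩
    obtain ⟨a, ha, b, hb, hab⟩ := Subgroup.mem_sup_of_normal_left.mp hmem
    obtain ⟨m, rfl⟩ := Subgroup.mem_zpowers_iff.mp ha
    obtain ⟨n, rfl⟩ := Subgroup.mem_zpowers_iff.mp hb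
    have hn1 : u ^ m * c2 ^ n = ι x := congrArg Prod.fst hab
    have hn2 : (1 : Multiplicative (ZMod 2)) ^ m * p ^ n = 1 := congrArg Prod.snd hab
    rw [one_zpow, one_mul] at hn2
    have hop : orderOf p = 2 := orderOf_eq_prime (by rw [pow_two]; exact hp) (by decide)
    obtain ⟨j, hj⟩ : (2 : ℤ) ∣ n := by
      have := orderOf_dvd_iff_zpow_eq_one.mpr hn2
      rwa [hop] at this
    rw [hj, zpow_mul, show c2 ^ (2 : ℤ) = 1 by exact_mod_cast h22, one_zpow, mul_one] at hn1
    exact Subgroup.mem_zpowers_iff.mpr ⟨m, hn1⟩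
  haveI : IsCyclic σ.ker := by
    let f : σ.ker →* Subgroup.zpowers u := (ι.comp σ.ker.subtype).codRestrict _ fun x => hkey x x.2
    exact isCyclic_of_injective f fun a b h => Subtype.ext (hinj (congrArg Subtype.val h))
  obtain ⟨g, hg⟩ := IsCyclic.exists_generator (α := σ.ker)
  refine exists_surj_of_zpowers 6 g ?_ hg
  obtain ⟨m, hm⟩ := Subgroup.mem_zpowers_iff.mp (hkey g g.2)
  refine Subtype.ext (hinj ?_)
  rw [SubmonoidClass.coe_pow, map_pow, ← hm, ← zpow_natCast, ← zpow_mul, mul_comm, zpow_mul, zpow_natCast, hu6, one_zpow,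
    OneMemClass.coe_one, map_one]

end Cfsg.Agent.CoxStem
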