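/-
The matrices of the triple cover of Fi22 over the field of four elements satisfy its relations.

Main results: `matU_rel`, `omegaU_pow`, `omegaU_ne`, `omegaU_comm`.
-/
import Cfsg.Agent.Lib.CoxStem.Spider
import Cfsg.Agent.Lib.CoxStem.Fi22Data
import Cfsg.Agent.Lib.BitMat.H1

set_option autoImplicit false
set_option maxRecDepth 100000

namespace Cfsg.Agent.CoxStem

open Cfsg.Agent.BitMat Matrix

/-- The matrices of size 54. -/
abbrev Mat54 : Type := Matrix (Fin 54) (Fin 54) (ZMod 2)

/-- The columns of the matrix of a generator. -/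
def matL (k : ℕ) : List ℕ := fi22Mats.getD k (idB 54)

/-- The value of a list of generators. -/
def valL (w : List ℕ) : List ℕ := evalB 54 matL w

theorem mats_check :
    (fi22Mats.all fun m => Nat.beq m.length 54 && mulB m m == idB 54) = true ∧ fi22Mats.length = 9 ∧
    fi22Omega.length = 54 := by
  decide +kernel

theorem cox_check : ((List.range 9).all fun x => (List.range 9).all fun y =>
    if Nat.beq x y then true
    else if adjB edges22 x y then valL [x, y, x] == valL [y, x, y]
    else valL [x, y] == valL [y, x]) = true := by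
  decide +kernel

theorem omega_comm_check : (fi22Mats.all fun m => mulB fi22Omega m == mulB m fi22Omega) = true := by
  decide +kernel

theorem omega_check : mulB fi22Omega (mulB fi22Omega fi22Omega) = idB 54 := by
  decide +kernel

theorem omega_entry : ∃ i : Fin 54,
    bitVal (fi22Omega.getD 0 0) i ≠ bitVal ((idB 54).getD 0 0) i := by
  decide +kernel

theorem spider_check : valL spiderPow = fi22Omega := by decide +kernel

theorem e7a_check : valL (List.replicate 9 e7Word).flatten = idB 54 := by decide +kernel

theorem e7b_check : valL (List.replicate 9 e7Word').flatten = idB 54 := by decide +kernel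

theorem matL_length (k : ℕ) : (matL k).length = 54 := by
  obtain ⟨h1, -, -⟩ := mats_check
  simp only [List.all_eq_true, Bool.and_eq_true, Nat.beq_eq] at h1
  rw [matL, List.getD_eq_getElem?_getD]
  rcases h : fi22Mats[k]? with _ | m
  · exact length_idB
  · exact (h1 m (List.mem_of_getElem? h)).1

theorem matL_sq (k : ℕ) : mulB (matL k) (matL k) = idB 54 := by
  obtain ⟨h1, -, -⟩ := mats_check
  simp only [List.all_eq_true, Bool.and_eq_true, beq_iff_eq] at h1
  rw [matL, List.getD_eq_getElem?_getD]
  rcases h : fi22Mats[k]? with _ | m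
  · show mulB (idB 54) (idB 54) = idB 54
    decide +kernel
  · exact (h1 m (List.mem_of_getElem? h)).2

/-- The invertible matrix of a generator. -/
def matU (k : ℕ) : Mat54ˣ where
  val := toMat (Equiv.refl _) (matL k)
  inv := toMat (Equiv.refl _) (matL k)
  val_inv := by rw [← toMat_mulB _ (matL_length k) (matL_length k), matL_sq, toMat_idB]
  inv_val := by rw [← toMat_mulB _ (matL_length k) (matL_length k), matL_sq, toMat_idB]

theorem val_wd : ∀ w : List ℕ, ((wd matU w : Mat54ˣ) : Mat54) = toMat (Equiv.refl _) (valL w)
  | [] => by rw [wd_nil, valL, evalB, toMat_idB]; rfl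
  | a :: w => by
    rw [wd_cons, Units.val_mul, val_wd w, valL, valL, evalB,
      toMat_mulB _ (matL_length a) (length_evalB matL_length w)]
    rfl

theorem wd_eq_of_valL {u w : List ℕ} (h : valL u = valL w) : wd matU u = wd matU w :=
  Units.ext (by rw [val_wd, val_wd, h])

theorem matU_rel : Rel edges22 matU := by
  have hsq : ∀ k, matU k * matU k = 1 := fun k => Units.ext (by
    rw [Units.val_mul]
    exact (matU k).val_inv)
  have hbig : ∀ k, 9 ≤ k → matU k = 1 := fun k hk => Units.ext (by
    show toMat (Equiv.refl _) (matL k) = 1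
    rw [matL, List.getD_eq_default _ _ (by rw [mats_check.2.1]; exact hk), toMat_idB])
  have hchk := cox_check
  simp only [List.all_eq_true, List.mem_range] at hchk
  refine ⟨hsq, ?_, fun x y hxy ha => ?_⟩
  · intro e he
    have hlt : e.1 < 9 ∧ e.2 < 9 ∧ Nat.beq e.1 e.2 = false ∧ adjB edges22 e.1 e.2 = true := by
      revert e; decide
    have h := hchk e.1 hlt.1 e.2 hlt.2.1
    rw [hlt.2.2.1, hlt.2.2.2] at h
    have := wd_eq_of_valL (beq_iff_eq.mp h)
    simpa [wd, mul_assoc] using this
  · by_cases hx : x < 9
    · by_cases hy : y < 9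
      · have h := hchk x hx y hy
        rw [show Nat.beq x y = false from Bool.eq_false_iff.mpr fun e => hxy (Nat.eq_of_beq_eq_true e), ha] at h
        simpa [wd] using wd_eq_of_valL (beq_iff_eq.mp h)
      · rw [hbig y (not_lt.mp hy), one_mul, mul_one]
    · rw [hbig x (not_lt.mp hx), one_mul, mul_one]

/-- The scalar of order three. -/
def omegaU : Mat54ˣ := wd matU spiderPow

theorem omegaU_pow : omegaU ^ 3 = 1 := by
  refine Units.ext ?_
  have hl := mats_check.2.2
  rw [pow_succ, pow_two, mul_assoc, Units.val_mul, Units.val_mul, omegaU, val_wd, spider_check,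
    ← toMat_mulB _ hl hl, ← toMat_mulB _ hl ((length_mulB _ _).trans hl), omega_check, toMat_idB]
  rfl

theorem omegaU_ne : omegaU ≠ 1 := by
  intro h
  have h0 := congrArg (fun u : Mat54ˣ => (u : Mat54)) h
  simp only [omegaU, val_wd, spider_check, Units.val_one] at h0
  rw [← toMat_idB (Equiv.refl (Fin 54))] at h0
  obtain ⟨i, hi⟩ := omega_entry
  exact hi (congrFun (congrFun h0 i) 0)

theorem omegaU_comm (k : ℕ) : omegaU * matU k = matU k * omegaU := by
  have hc := omega_comm_check
  simp only [List.all_eq_true, beq_iff_eq] at hc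
  refine Units.ext ?_
  rw [Units.val_mul, Units.val_mul, omegaU, val_wd, spider_check,
    show (matU k : Mat54) = toMat (Equiv.refl _) (matL k) from rfl,
    ← toMat_mulB _ mats_check.2.2 (matL_length k), ← toMat_mulB _ (matL_length k) mats_check.2.2]
  congr 1
  rw [matL, List.getD_eq_getElem?_getD]
  rcases h : fi22Mats[k]? with _ | m
  · show mulB fi22Omega (idB 54) = mulB (idB 54) fi22Omega
    decide +kernel
  · exact hc m (List.mem_of_getElem? h)

end Cfsg.Agent.CoxStem
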