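/-
The six-fold cover of Fi22 inside the product of the double cover in Fi23 and a matrix group over
the field of four elements.

Main result: `fi22_exists_cover`.
-/
import Cfsg.Agent.Lib.CoxStem.Fi22
import Cfsg.Agent.Lib.CoxStem.Fi22Mat
import Cfsg.Agent.Lib.Fi23Trans.Cover

set_option autoImplicit false
set_option maxRecDepth 100000
set_option linter.style.haveILetI false

namespace Cfsg.Agent.CoxStem

open Cfsg.Agent.CosetEnum Cfsg.Agent.CosetEnum.Data Cfsg.Agent.BitMat

theorem graph22_23 : ((List.range 9).all fun k => Nat.blt (Fi23Trans.lt9 k) 10) = true := by decide +kernel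

theorem hel_sq (k : ℕ) : Fi23Trans.hel k * Fi23Trans.hel k = 1 := by
  by_cases hk : k < 9
  · refine Subtype.ext ?_
    rw [Fi23Trans.hel, dif_pos hk, Subgroup.coe_mul, OneMemClass.coe_one]
    show fi23Setup.el (Fi23Trans.lt9 k) * fi23Setup.el (Fi23Trans.lt9 k) = 1
    have h := List.all_eq_true.mp graph22_23 k (List.mem_range.mpr hk)
    rw [Nat.blt_eq] at h
    generalize Fi23Trans.lt9 k = j at h
    have hg : ∀ a : Cfsg.Spor.Fi23.Gen, (PresentedGroup.of a : fi23Setup.G) * PresentedGroup.of a = 1 := by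
      intro a
      have h1 := PresentedGroup.one_of_mem (rels := fi23Setup.rels)
        (x := (FreeGroup.of a * FreeGroup.of a) ^ Cfsg.Spor.coxLabel Cfsg.Spor.Fi23.edges a a)
        (Or.inl ⟨a, by cases a <;> decide +kernel, a, by cases a <;> decide +kernel, rfl⟩)
      rw [show Cfsg.Spor.coxLabel Cfsg.Spor.Fi23.edges a a = 1 by cases a <;> decide +kernel, pow_one, map_mul] at h1
      exact h1
    interval_cases j <;> exact hg _
  · rw [Fi23Trans.hel, dif_neg hk, mul_one]

/-- The map of the double cover onto Fi22. -/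
noncomputable def proj22 : Fi23Trans.Hs →* fi22Setup.G :=
  Fi23Trans.fi22EquivRange.symm.toMonoidHom.comp
    (Fi23Trans.phi.codRestrict Fi22U62.rho.range fun x => Fi23Trans.range_eq ▸ ⟨x, rfl⟩)

theorem proj22_hel {k : ℕ} (hk : k < 9) : proj22 (Fi23Trans.hel k) = fi22Setup.el k := by
  apply Fi23Trans.fi22EquivRange.injective
  rw [proj22, MonoidHom.comp_apply]
  refine (MulEquiv.apply_symm_apply _ _).trans (Subtype.ext ?_)
  show Fi23Trans.phi (Fi23Trans.hel k) = Fi22U62.rho (fi22Setup.el k)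
  rw [Fi23Trans.hel, dif_pos hk, Fi23Trans.phi_gen hk]
  exact (Setup.hom_el _ _ _ _ (Fi23Trans.gen_spec hk).2.1).symm

theorem proj22_ker : proj22.ker = Fi23Trans.phi.ker := by
  ext x
  rw [MonoidHom.mem_ker, MonoidHom.mem_ker, proj22, MonoidHom.comp_apply, MulEquiv.coe_toMonoidHom,
    MulEquiv.map_eq_one_iff]
  exact Subtype.ext_iff

theorem closure_hel : Subgroup.closure (Fi23Trans.hel '' {k | k < 9}) = ⊤ := by
  rw [eq_top_iff]
  rintro ⟨g, hg⟩ -
  have h : g ∈ (Subgroup.closure (Fi23Trans.hel '' {k | k < 9})).map Fi23Trans.Hs.subtype := by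
    rw [MonoidHom.map_closure, ← Set.image_comp]
    have := hg
    rw [Fi23Trans.Hs_eq_closure] at this
    refine Subgroup.closure_mono ?_ this
    rintro _ ⟨k, hk, rfl⟩
    refine ⟨k, hk, ?_⟩
    rw [Function.comp_apply, Fi23Trans.hel, dif_pos (show k < 9 from hk)]
    rfl
  obtain ⟨y, hy, hyx⟩ := h
  rwa [show y = ⟨g, hg⟩ from Subtype.ext hyx] at hy

/-- Squares are commutators in a group generated by involutions. -/
theorem sq_mem_commutator {α : Type*} {H : Type*} [Group H] (f : α → H) (hgen : Subgroup.closure (Set.range f) = ⊤)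
    (hf : ∀ a, f a * f a = 1) (x : H) : x * x ∈ commutator H := by
  rw [← Abelianization.ker_of H, MonoidHom.mem_ker]
  have key : ∀ y : H, Abelianization.of y * Abelianization.of y = 1 := by
    intro y
    have hy : y ∈ Subgroup.closure (Set.range f) := hgen ▸ Subgroup.mem_top y
    induction hy using Subgroup.closure_induction with
    | mem y hy => obtain ⟨a, rfl⟩ := hy; rw [← map_mul, hf, map_one]
    | one => rw [map_one, mul_one]
    | mul a b _ _ ha hb => rw [map_mul, mul_mul_mul_comm, ha, hb, mul_one]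
    | inv a _ ha => rw [map_inv, ← _root_.mul_inv_rev, ha, inv_one]
  rw [map_mul]
  exact key x

theorem hs_perfect : commutator Fi23Trans.Hs = ⊤ := by
  by_contra hne
  haveI := Fi23Trans.fi23_finite
  have hgen : Subgroup.closure (Set.range fun k : Fin 9 => Fi23Trans.hel k) = ⊤ := by
    rw [eq_top_iff, ← closure_hel]
    refine Subgroup.closure_mono ?_
    rintro _ ⟨k, hk, rfl⟩
    exact ⟨⟨k, hk⟩, rfl⟩
  haveI : Nontrivial (Abelianization Fi23Trans.Hs) := by
    by_contra hnt
    rw [not_nontrivial_iff_subsingleton] at hnt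
    refine hne (eq_top_iff.mpr fun x _ => ?_)
    rw [← Abelianization.ker_of, MonoidHom.mem_ker]
    exact Subsingleton.elim _ _
  obtain ⟨L, hL⟩ := exists_index_two (R := Abelianization Fi23Trans.Hs) fun x => by
    obtain ⟨y, rfl⟩ := QuotientGroup.mk_surjective x
    have := sq_mem_commutator _ hgen (fun k => hel_sq _) y
    rw [← Abelianization.ker_of, MonoidHom.mem_ker, map_mul] at this
    exact this
  exact index_ne_two Fi23Trans.hom_eq_one (L.comap Abelianization.of)
    ((L.index_comap_of_surjective QuotientGroup.mk_surjective).trans hL)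

/-- Powers of an element commuting with an image pull back to a normal subgroup. -/
theorem normal_comap_zpowers {F H : Type*} [Group F] [Group H] (f : F →* H) (c : H)
    (h : ∀ v, c * f v = f v * c) : ((Subgroup.zpowers c).comap f).Normal := by
  refine ⟨fun y hy v => ?_⟩
  rw [Subgroup.mem_comap] at hy ⊢
  obtain ⟨m, hm⟩ := Subgroup.mem_zpowers_iff.mp hy
  rw [map_mul, map_mul, map_inv, ← hm, ← ((show Commute c _ from h v).zpow_left m).eq, mul_inv_cancel_right]
  exact Subgroup.zpow_mem_zpowers _ m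

/-- The two representations together. -/
noncomputable def pairHom : FreeGroup Cfsg.Spor.Fi22.Gen →* Fi23Trans.Hs × Mat54ˣ :=
  FreeGroup.lift fun a => (Fi23Trans.hel (idx22 a), matU (idx22 a))

/-- The map of the cover onto Fi22. -/
noncomputable def coverHom : pairHom.range →* fi22Setup.G :=
  (proj22.comp (MonoidHom.fst _ _)).comp pairHom.range.subtype

theorem pairHom_proj (w : FreeGroup Cfsg.Spor.Fi22.Gen) :
    proj22 (pairHom w).1 = PresentedGroup.mk fi22Setup.rels w := by
  have h : (proj22.comp (MonoidHom.fst _ _)).comp pairHom = PresentedGroup.mk fi22Setup.rels := by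
    ext a
    simp only [MonoidHom.comp_apply, pairHom, FreeGroup.lift_apply_of, MonoidHom.coe_fst,
      proj22_hel (idx22_spec a).1, el22_gen (idx22_spec a).1, (idx22_spec a).2]
    rfl
  exact DFunLike.congr_fun h w

theorem pairHom_snd (w : FreeGroup Cfsg.Spor.Fi22.Gen) :
    (pairHom w).2 = FreeGroup.lift (fun a => matU (idx22 a)) w := by
  have h : (MonoidHom.snd _ _).comp pairHom = FreeGroup.lift (fun a => matU (idx22 a)) := by
    ext a
    simp [pairHom]
  exact DFunLike.congr_fun h w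

theorem omegaU_comm_range (w : FreeGroup Cfsg.Spor.Fi22.Gen) :
    omegaU * FreeGroup.lift (fun a => matU (idx22 a)) w = FreeGroup.lift (fun a => matU (idx22 a)) w * omegaU := by
  have h : (FreeGroup.lift (fun a => matU (idx22 a))).range ≤ Subgroup.centralizer {omegaU} := by
    rw [FreeGroup.range_lift_eq_closure, Subgroup.closure_le]
    rintro _ ⟨a, rfl⟩
    exact Subgroup.mem_centralizer_singleton_iff.mpr (omegaU_comm _).symm
  exact (Subgroup.mem_centralizer_singleton_iff.mp (h ⟨w, rfl⟩)).symm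

theorem spider_word : wd matU spiderPow = wd matU spider ^ 10 := by
  rw [spiderPow, wd, wd, List.map_flatten, List.prod_flatten, List.map_map, List.map_replicate,
    List.prod_replicate]
  rfl

theorem e7_word (l : List ℕ) (h : valL (List.replicate 9 l).flatten = idB 54) : wd matU l ^ 9 = 1 := by
  have h1 : wd matU (List.replicate 9 l).flatten = wd matU [] := wd_eq_of_valL h
  rw [wd_nil, wd, List.map_flatten, List.prod_flatten, List.map_map, List.map_replicate, List.prod_replicate] at h1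
  exact h1

/-- Relators go into the scalars. -/
theorem rels_scalar : ∀ r ∈ fi22Setup.rels,
    FreeGroup.lift (fun a => matU (idx22 a)) r ∈ Subgroup.zpowers omegaU := by
  rintro r (hr | hr)
  · obtain ⟨e1, -⟩ := cox_value (A := Multiplicative (ZMod 2)) (p := 1) graph22 idx22 idx22_spec matU_rel
      (one_mul 1) hr
    rw [e1]
    exact one_mem _
  · have hr' : r ∈ Cfsg.Spor.Fi22.extra := hr
    simp only [Cfsg.Spor.Fi22.extra, List.mem_cons, List.not_mem_nil, or_false] at hr'
    rcases hr' with rfl | rfl | rfl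
    · rw [show FreeGroup.lift (fun a => matU (idx22 a)) _ = wd matU spider ^ 10 by
        simp [idx22, wd, spider, mul_assoc], ← spider_word]
      exact Subgroup.mem_zpowers _
    · rw [show FreeGroup.lift (fun a => matU (idx22 a)) _ = wd matU e7Word ^ 9 by
        simp [idx22, wd, e7Word, mul_assoc], e7_word _ e7a_check]
      exact one_mem _
    · rw [show FreeGroup.lift (fun a => matU (idx22 a)) _ = wd matU e7Word' ^ 9 by
        simp [idx22, wd, e7Word', mul_assoc], e7_word _ e7b_check]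
      exact one_mem _

/-- Powers of commuting units commute. -/
theorem units_comm_zpow {M : Type*} [Monoid M] {c y : Mˣ} (h : c * y = y * c) (m : ℤ) : c ^ m * y = y * c ^ m :=
  (Commute.zpow_left h m).eq

/-- Elements of the kernel commute with both representations. -/
theorem pair_comm (x : Fi23Trans.Hs × Mat54ˣ) (h1 : ∀ y, y * x.1 = x.1 * y) (h2 : x.2 ∈ Subgroup.zpowers omegaU)
    (w : FreeGroup Cfsg.Spor.Fi22.Gen) : pairHom w * x = x * pairHom w := by
  obtain ⟨m, hm⟩ := Subgroup.mem_zpowers_iff.mp h2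
  have h3 := omegaU_comm_range w
  rw [← pairHom_snd] at h3
  generalize pairHom w = y at h3 ⊢
  generalize omegaU = c at hm h3
  refine Prod.ext (h1 _) ?_
  show y.2 * x.2 = x.2 * y.2
  rw [← hm]
  exact (units_comm_zpow h3 m).symm

set_option maxHeartbeats 600000 in
/-- A stem extension of Fi22 with kernel cyclic of order six. -/
theorem fi22_exists_cover :
    ∃ (Γ : Type) (_ : Group Γ) (_ : Finite Γ) (σ : Γ →* Cfsg.Spor.Fi22),
      Cfsg.IsStemExtension σ ∧ Nonempty (σ.ker ≃* Multiplicative (ZMod 6)) := by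
  haveI := Fi23Trans.fi23_finite
  have hfst : Function.Surjective fun w => (pairHom w).1 := by
    have h : ((MonoidHom.fst _ _).comp pairHom).range = ⊤ := by
      rw [eq_top_iff, ← closure_hel, Subgroup.closure_le]
      rintro _ ⟨k, hk, rfl⟩
      refine ⟨FreeGroup.of (gen22 k), ?_⟩
      have hk9 : k < 9 := hk
      have e : idx22 (gen22 k) = k := by interval_cases k <;> rfl
      simp only [MonoidHom.comp_apply, pairHom, FreeGroup.lift_apply_of, MonoidHom.coe_fst, e]
    exact MonoidHom.range_eq_top.mp h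
  have hsnd : ∀ w, PresentedGroup.mk fi22Setup.rels w = 1 → (pairHom w).2 ∈ Subgroup.zpowers omegaU := by
    intro w hw
    rw [pairHom_snd]
    haveI := normal_comap_zpowers (FreeGroup.lift fun a => matU (idx22 a)) omegaU omegaU_comm_range
    exact Subgroup.normalClosure_le_normal (N := (Subgroup.zpowers omegaU).comap _) rels_scalar
      (PresentedGroup.mk_eq_one_iff.mp hw)
  have hker : ∀ x : pairHom.range, x ∈ coverHom.ker →
      (x.1).1 ∈ Fi23Trans.phi.ker ∧ (x.1).2 ∈ Subgroup.zpowers omegaU := by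
    rintro ⟨_, w, rfl⟩ hx
    refine ⟨proj22_ker ▸ hx, hsnd w ?_⟩
    rw [← pairHom_proj]
    exact hx
  have hzc : ∀ z ∈ Fi23Trans.phi.ker, ∀ y : Fi23Trans.Hs, y * z = z * y := fun z hz y =>
    Subgroup.mem_center_iff.mp (Fi23Trans.center_eq_ker.symm ▸ hz) y
  have hz2 : ∀ z ∈ Fi23Trans.phi.ker, z * z = 1 := by
    intro z hz
    have : (⟨z, hz⟩ : Fi23Trans.phi.ker) ^ 2 = 1 := by rw [← Fi23Trans.card_ker]; exact pow_card_eq_one'
    rw [← pow_two]
    exact congrArg Subtype.val this
  have hw3 : ∀ M ∈ Subgroup.zpowers omegaU, M ^ 3 = 1 := by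
    intro M hM
    obtain ⟨m, rfl⟩ := Subgroup.mem_zpowers_iff.mp hM
    rw [← zpow_natCast, ← _root_.zpow_mul, mul_comm, _root_.zpow_mul, zpow_natCast, omegaU_pow, _root_.one_zpow]
  obtain ⟨s, hs, hs2⟩ : ∃ s : pairHom.range, s ∈ coverHom.ker ∧ (s.1) = (1, omegaU) := by
    let r : FreeGroup Cfsg.Spor.Fi22.Gen := (Cfsg.Spor.Fi22.d * Cfsg.Spor.Fi22.c * Cfsg.Spor.Fi22.b * Cfsg.Spor.Fi22.d *
      Cfsg.Spor.Fi22.e * Cfsg.Spor.Fi22.f * Cfsg.Spor.Fi22.d * Cfsg.Spor.Fi22.h * Cfsg.Spor.Fi22.i) ^ 10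
    have hr : PresentedGroup.mk fi22Setup.rels r = 1 :=
      PresentedGroup.one_of_mem (Or.inr (show _ ∈ Cfsg.Spor.Fi22.extra by simp [r, Cfsg.Spor.Fi22.extra]))
    have h2 : (pairHom r).2 = omegaU := by
      rw [pairHom_snd, omegaU, spider_word]
      simp [r, idx22, wd, spider, mul_assoc]
    have h1 : (pairHom r).1 ∈ Fi23Trans.phi.ker := by
      rw [← proj22_ker, MonoidHom.mem_ker, pairHom_proj, hr]
    have hpow : pairHom (r ^ 4) = (1, omegaU) := by
      rw [map_pow]
      refine Prod.ext ?_ ?_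
      · rw [Prod.pow_fst, show 4 = 2 * 2 from rfl, pow_mul, pow_two (pairHom r).1, hz2 _ h1, one_pow]
      · rw [Prod.pow_snd, h2, pow_succ, omegaU_pow, one_mul]
    refine ⟨⟨pairHom (r ^ 4), r ^ 4, rfl⟩, ?_, hpow⟩
    show proj22 (pairHom (r ^ 4)).1 = 1
    rw [pairHom_proj, map_pow, hr, one_pow]
  let gens : Cfsg.Spor.Fi22.Gen → pairHom.range := fun a => ⟨pairHom (FreeGroup.of a), _, rfl⟩
  have hgens : Subgroup.closure (Set.range gens) = ⊤ := by
    rw [show Set.range gens = pairHom.rangeRestrict '' Set.range FreeGroup.of by rw [← Set.range_comp]; rfl,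
      ← MonoidHom.map_closure, FreeGroup.closure_range_of,
      Subgroup.map_top_of_surjective _ pairHom.rangeRestrict_surjective]
  have hginv : ∀ a, gens a * gens a = 1 := fun a => Subtype.ext (by
    simp only [gens, Subgroup.coe_mul, OneMemClass.coe_one, pairHom, FreeGroup.lift_apply_of, Prod.mk_mul_mk]
    exact Prod.ext (hel_sq _) (matU_rel.sq _))
  have hsD : s ∈ commutator pairHom.range := by
    have := sq_mem_commutator gens hgens hginv (s * s)
    have e : (s * s) * (s * s) = s := Subtype.ext (by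
      simp only [Subgroup.coe_mul, hs2, Prod.mk_mul_mk, mul_one]
      rw [← pow_two, ← pow_two, ← pow_mul, show 2 * 2 = 3 + 1 from rfl, pow_succ, omegaU_pow, one_mul])
    rwa [e] at this
  obtain ⟨z0, hz0, hz0ne⟩ : ∃ z ∈ Fi23Trans.phi.ker, z ≠ 1 := by
    by_contra hne
    push Not at hne
    have hb : Fi23Trans.phi.ker = ⊥ := (Subgroup.eq_bot_iff_forall _).mpr hne
    have := Fi23Trans.card_ker
    rw [hb, Subgroup.card_bot] at this
    omega
  obtain ⟨t, ht, htD, ht1⟩ : ∃ t : pairHom.range, t ∈ coverHom.ker ∧ t ∈ commutator pairHom.range ∧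
      (t.1) = (z0, 1) := by
    let π : pairHom.range →* Fi23Trans.Hs := (MonoidHom.fst _ _).comp pairHom.range.subtype
    have hπ : Function.Surjective π := fun y => ⟨⟨_, (hfst y).choose, rfl⟩, (hfst y).choose_spec⟩
    have hmap : (commutator pairHom.range).map π = ⊤ := by
      rw [commutator_def, Subgroup.map_commutator, Subgroup.map_top_of_surjective π hπ, ← commutator_def, hs_perfect]
    obtain ⟨d, hd, hdz⟩ := (hmap.symm ▸ Subgroup.mem_top z0 : z0 ∈ (commutator pairHom.range).map π)
    have hdz' : (d.1).1 = z0 := hdz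
    have hdk : d ∈ coverHom.ker := by
      show proj22 (d.1).1 = 1
      rw [hdz', ← MonoidHom.mem_ker, proj22_ker]
      exact hz0
    refine ⟨d ^ 3, pow_mem hdk 3, pow_mem hd 3, Prod.ext ?_ ?_⟩
    · rw [SubmonoidClass.coe_pow, Prod.pow_fst, hdz', pow_succ, pow_two, hz2 z0 hz0, one_mul]
    · rw [SubmonoidClass.coe_pow, Prod.pow_snd]
      exact hw3 _ (hker d hdk).2
  have hspan : ∀ x ∈ coverHom.ker, x ∈ Subgroup.zpowers (t * s) := by
    intro x hx
    obtain ⟨h1, h2⟩ := hker x hx
    obtain ⟨m, hm⟩ := Subgroup.mem_zpowers_iff.mp h2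
    have hts : (t * s : pairHom.range).1 = (z0, omegaU) := by
      rw [Subgroup.coe_mul, ht1, hs2, Prod.mk_mul_mk, mul_one, one_mul]
    have hz : (x.1).1 = 1 ∨ (x.1).1 = z0 := by
      obtain ⟨a, b, hab, hu⟩ := Nat.card_eq_two_iff.mp Fi23Trans.card_ker
      have hm' : ∀ c : Fi23Trans.phi.ker, c = a ∨ c = b := fun c => by
        have : c ∈ ({a, b} : Set Fi23Trans.phi.ker) := hu.symm ▸ Set.mem_univ c
        simpa using this
      have hne : (⟨z0, hz0⟩ : Fi23Trans.phi.ker) ≠ 1 := fun h => hz0ne (congrArg Subtype.val h)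
      have key : (⟨_, h1⟩ : Fi23Trans.phi.ker) = 1 ∨ (⟨_, h1⟩ : Fi23Trans.phi.ker) = ⟨z0, hz0⟩ := by
        rcases hm' 1 with h | h <;> rcases hm' ⟨z0, hz0⟩ with h' | h' <;> rcases hm' ⟨_, h1⟩ with hc | hc <;>
          simp_all
      rcases key with h | h
      exacts [Or.inl (congrArg Subtype.val h), Or.inr (congrArg Subtype.val h)]
    have hz02 : z0 ^ (2 : ℤ) = 1 := by rw [zpow_two]; exact hz2 z0 hz0
    have ho3 : omegaU ^ (3 : ℤ) = 1 := by exact_mod_cast omegaU_pow
    rcases hz with hz | hz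
    · refine Subgroup.mem_zpowers_iff.mpr ⟨4 * m, Subtype.ext (Prod.ext ?_ ?_)⟩
      · rw [SubgroupClass.coe_zpow, hts, Prod.pow_fst, hz,
          show 4 * m = 2 * (2 * m) by ring, _root_.zpow_mul, hz02, _root_.one_zpow]
      · rw [SubgroupClass.coe_zpow, hts, Prod.pow_snd, ← hm,
          show 4 * m = 3 * m + m by ring, _root_.zpow_add, _root_.zpow_mul, ho3, _root_.one_zpow, one_mul]
    · refine Subgroup.mem_zpowers_iff.mpr ⟨4 * m + 3, Subtype.ext (Prod.ext ?_ ?_)⟩
      · rw [SubgroupClass.coe_zpow, hts, Prod.pow_fst, hz,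
          show 4 * m + 3 = 2 * (2 * m + 1) + 1 by ring, _root_.zpow_add, _root_.zpow_mul, hz02, _root_.one_zpow, one_mul, zpow_one]
      · rw [SubgroupClass.coe_zpow, hts, Prod.pow_snd, ← hm,
          show 4 * m + 3 = 3 * (m + 1) + m by ring, _root_.zpow_add, _root_.zpow_mul, ho3, _root_.one_zpow, one_mul]
  have hgen : coverHom.ker = Subgroup.zpowers (t * s) :=
    le_antisymm hspan (Subgroup.zpowers_le.mpr (mul_mem ht hs))
  have hord : orderOf (t * s) = 6 := by
    rw [← Subgroup.orderOf_coe, Subgroup.coe_mul, ht1, hs2, Prod.mk_mul_mk, mul_one, one_mul, Prod.orderOf_mk,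
      orderOf_eq_prime (p := 2) (by rw [pow_two]; exact hz2 z0 hz0) hz0ne,
      orderOf_eq_prime (p := 3) omegaU_pow omegaU_ne]
    rfl
  suffices h : Cfsg.IsStemExtension coverHom ∧ Nonempty (coverHom.ker ≃* Multiplicative (ZMod 6)) from
    ⟨pairHom.range, inferInstance, inferInstance, coverHom, h⟩
  refine ⟨⟨?_, ?_, ?_⟩, ?_⟩
  · intro y
    obtain ⟨w, rfl⟩ := PresentedGroup.mk_surjective fi22Setup.rels y
    exact ⟨⟨_, w, rfl⟩, pairHom_proj w⟩
  · intro x hx
    obtain ⟨h1, h2⟩ := hker x hx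
    rw [Subgroup.mem_center_iff]
    rintro ⟨_, w, rfl⟩
    exact Subtype.ext (pair_comm x.1 (hzc _ h1) h2 w)
  · rw [hgen, Subgroup.zpowers_le]
    exact mul_mem htD hsD
  · haveI : IsCyclic coverHom.ker := by rw [hgen]; infer_instance
    have hc : Nat.card coverHom.ker = 6 := by rw [hgen, Nat.card_zpowers, hord]
    exact ⟨(mulEquivOfCyclicCardEq (by rw [hc]; simp))⟩

end Cfsg.Agent.CoxStem
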