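/-
Generated data: a translation of Fi23 as a product of transpositions commuting with an element of order 3.
-/
import Cfsg.Agent.EqLemmas

set_option autoImplicit false

namespace Cfsg.Agent.CoxStem

/-- The transpositions, as palindromes. -/
def fi23Trans : List (List ℕ) := [
[
  3, 4, 0, 1, 2, 3, 8, 9, 3, 4, 2, 3, 8, 5, 6, 4, 5, 1, 2, 3, 4, 0, 1, 2, 3, 8, 9, 4, 5, 2, 3, 4, 1, 2, 3, 8,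
  7, 6, 5, 4, 0, 1, 2, 3, 2, 1, 0, 4, 5, 6, 7, 8, 3, 2, 1, 4, 3, 2, 5, 4, 9, 8, 3, 2, 1, 0, 4, 3, 2, 1, 5, 4,
  6, 5, 8, 3, 2, 4, 3, 9, 8, 3, 2, 1, 0, 4, 3],
[
  3, 4, 0, 1, 2, 3, 8, 9, 5, 4, 3, 8, 6, 7, 5, 6, 3, 4, 5, 2, 3, 4, 1, 2, 3, 8, 9, 6, 4, 5, 3, 4, 1, 2, 3, 8,
  7, 6, 5, 4, 0, 1, 2, 3, 2, 1, 0, 4, 5, 6, 7, 8, 3, 2, 1, 4, 3, 5, 4, 6, 9, 8, 3, 2, 1, 4, 3, 2, 5, 4, 3, 6,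
  5, 7, 6, 8, 3, 4, 5, 9, 8, 3, 2, 1, 0, 4, 3],
[
  2, 3, 4, 0, 1, 2, 3, 8, 9, 5, 4, 3, 8, 6, 7, 5, 6, 3, 4, 5, 2, 3, 4, 1, 2, 3, 8, 9, 6, 4, 5, 2, 3, 4, 1, 2,
  3, 8, 7, 6, 5, 4, 0, 1, 2, 3, 2, 1, 0, 4, 5, 6, 7, 8, 3, 2, 1, 4, 3, 2, 5, 4, 6, 9, 8, 3, 2, 1, 4, 3, 2, 5,
  4, 3, 6, 5, 7, 6, 8, 3, 4, 5, 9, 8, 3, 2, 1, 0, 4, 3, 2],
[
  1, 2, 3, 4, 0, 1, 2, 3, 8, 9, 8, 3, 4, 1, 2, 3, 8, 5, 6, 3, 4, 5, 2, 3, 4, 1, 2, 3, 8, 9, 6, 5, 3, 4, 1, 2,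
  3, 8, 7, 6, 5, 4, 0, 1, 2, 3, 2, 1, 0, 4, 5, 6, 7, 8, 3, 2, 1, 4, 3, 5, 6, 9, 8, 3, 2, 1, 4, 3, 2, 5, 4, 3,
  6, 5, 8, 3, 2, 1, 4, 3, 8, 9, 8, 3, 2, 1, 0, 4, 3, 2, 1]]

end Cfsg.Agent.CoxStem
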