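/-
The presented group Fi23 has no nontrivial stem extension.

Main result: `fi23_ker_eq_bot`.
-/
import Cfsg.Agent.Lib.CoxStem.Cox
import Cfsg.Agent.Lib.CoxStem.Spider
import Cfsg.Agent.Lib.CoxStem.Fi23Data
import Cfsg.Agent.Lib.Fi23Trans.Transpositions

set_option autoImplicit false
set_option maxRecDepth 10000
set_option linter.style.haveILetI false

namespace Cfsg.Agent.CoxStem

open Cfsg.Agent.CosetEnum Cfsg.Agent.CosetEnum.Data

/-- The edges of Y342. -/
def edges23 : List (ℕ × ℕ) := [(1, 0), (2, 1), (6, 7), (5, 6), (4, 5), (8, 9), (3, 2), (3, 4), (3, 8)]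

/-- The generator of a number. -/
def gen23 (k : ℕ) : Cfsg.Spor.Fi23.Gen := (fi23Setup.lt.getD k (.a, true)).1

/-- The number of a generator. -/
def idx23 : Cfsg.Spor.Fi23.Gen → ℕ
  | .a => 0 | .b => 1 | .c => 2 | .d => 3 | .e => 4 | .f => 5 | .g => 6 | .j => 7 | .h => 8 | .i => 9

theorem idx23_spec (a : Cfsg.Spor.Fi23.Gen) : idx23 a < 10 ∧ gen23 (idx23 a) = a := by
  cases a <;> exact ⟨by decide, rfl⟩

theorem graph23 : graphOK Cfsg.Spor.Fi23.edges gen23 edges23 10 = true := by decide +kernel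

/-- The nodes of Y332 inside Y342. -/
def m22 (k : ℕ) : ℕ := if k < 7 then k else k + 1

theorem el_out {k : ℕ} (hk : 10 ≤ k) : fi23Setup.el k = 1 := by
  rw [Setup.el, List.getElem?_eq_none (by exact hk)]

theorem el_gen {k : ℕ} (hk : k < 10) : fi23Setup.el k = PresentedGroup.of (gen23 k) := by
  interval_cases k <;> rfl

theorem wd_el : ∀ w : List ℕ, wd fi23Setup.el w = ev fi23Setup.el w.reverse
  | [] => rfl
  | x :: w => by
    rw [wd_cons, List.reverse_cons, ev_append, wd_el w]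
    simp only [ev, one_mul]

theorem z_split : Fi23Trans.zWord.take 28 ++ [8] ++ (Fi23Trans.zWord.take 28).reverse = Fi23Trans.zWord := by
  decide +kernel

theorem z0_conj : IsConj Fi23Trans.z0 (fi23Setup.el 8) := by
  have hlt : ∀ a ∈ Fi23Trans.zWord.take 28, a < fi23h.k := fun a ha =>
    Fi23Trans.zWord_lt a (List.mem_of_mem_take ha)
  refine isConj_iff.mpr ⟨ev fi23Setup.el (Fi23Trans.zWord.take 28), ?_⟩
  rw [Fi23Trans.z0, show ev fi23Setup.el Fi23Trans.zWord =
    ev fi23Setup.el (Fi23Trans.zWord.take 28 ++ [8] ++ (Fi23Trans.zWord.take 28).reverse) by rw [z_split]]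
  rw [ev_append, ev_append, Fi23Trans.ev_inv _ hlt]
  simp only [ev, one_mul]
  group

/-- The checks in Fi23. -/
theorem fi23_checks :
    fi23h.trace (transWord.map m22).reverse =
      fi23h.trace ([4, 5, 8, 9] ++ [4, 5, 8, 9] ++ fi23Trans.reverse.flatten).reverse ∧
    ((transWord.map m22 ++ [4, 5, 8, 9] ++ fi23Trans.flatten).all fun a => Nat.blt a fi23h.k) = true ∧
    (fi23Trans.all fun t => t.reverse == t &&
      Nat.beq (fi23h.trace (t ++ [4, 5, 8, 9]).reverse) (fi23h.trace ([4, 5, 8, 9] ++ t).reverse)) = true := by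
  decide +kernel

/-- Commutators with a given element that are central involutions. -/
theorem exists_sign_prod {H : Type*} [Group H] (Y : H) :
    ∀ l : List H, (∀ v ∈ l, ∃ k ∈ Subgroup.center H, k * k = 1 ∧ v * Y * v⁻¹ = k * Y) →
      ∃ k ∈ Subgroup.center H, k * k = 1 ∧ l.prod * Y * l.prod⁻¹ = k * Y
  | [], _ => ⟨1, one_mem _, one_mul 1, by simp⟩
  | v :: l, h => by
    obtain ⟨k, hk, hk2, hv⟩ := h v List.mem_cons_self
    obtain ⟨k', hk', hk2', hl⟩ := exists_sign_prod Y l fun u hu => h u (List.mem_cons_of_mem _ hu)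
    have hcomm : k' * k = k * k' := Subgroup.mem_center_iff.mp hk k'
    refine ⟨k' * k, mul_mem hk' hk, ?_, ?_⟩
    · calc k' * k * (k' * k) = k' * (k * k') * k := by group
        _ = (k' * k') * (k * k) := by rw [← hcomm]; group
        _ = 1 := by rw [hk2, hk2', mul_one]
    · rw [List.prod_cons]
      calc v * l.prod * Y * (v * l.prod)⁻¹ = v * (l.prod * Y * l.prod⁻¹) * v⁻¹ := by group
        _ = (v * k') * Y * v⁻¹ := by rw [hl]; group
        _ = k' * (v * Y * v⁻¹) := by rw [Subgroup.mem_center_iff.mp hk' v]; group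
        _ = k' * k * Y := by rw [hv, mul_assoc]

/-- In an extension of Fi23 the tenth power of the spider word is trivial. -/
theorem spider_eq_one {Γs : Type} [Group Γs] (σs : Γs →* fi23Setup.G) (hc : σs.ker ≤ Subgroup.center Γs)
    (X : ℕ → Γs) (hX : ∀ k, σs (X k) = fi23Setup.el k) (hR : Rel edges23 X)
    (hR22 : Rel edges22 (fun k => X (m22 k)))
    (hC : wd (fun k => X (m22 k)) spider ^ 10 ∈ Subgroup.center Γs) :
    wd (fun k => X (m22 k)) spider ^ 10 = 1 := by
  have h3 := spider_cube hR22 hC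
  have hcomm := comm_eq_spider hR22 hC
  have hmap : ∀ w, wd (fun k => X (m22 k)) w = wd X (w.map m22) := fun w => by simp [wd, List.map_map]; rfl
  obtain ⟨htr, hlt, hts⟩ := fi23_checks
  simp only [List.all_eq_true, Nat.blt_eq] at hlt
  simp only [List.all_eq_true, Bool.and_eq_true, beq_iff_eq, Nat.beq_eq] at hts
  rw [hmap transWord, hmap [4, 5, 7, 8], show [4, 5, 7, 8].map m22 = [4, 5, 8, 9] from rfl] at hcomm
  set Y := wd X [4, 5, 8, 9] with hY
  have hσ : ∀ w, σs (wd X w) = ev fi23Setup.el w.reverse := by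
    intro w
    rw [← wd_el, wd, wd, map_list_prod, List.map_map]
    simp [Function.comp_def, hX]
  have hlt4 : ∀ a ∈ [4, 5, 8, 9], a < fi23h.k := fun a ha =>
    hlt a (List.mem_append_left _ (List.mem_append_right _ ha))
  have hsign : ∀ v ∈ fi23Trans.reverse.map (wd X),
      ∃ k ∈ Subgroup.center Γs, k * k = 1 ∧ v * Y * v⁻¹ = k * Y := by
    intro v hv
    obtain ⟨t, ht, rfl⟩ := List.mem_map.mp hv
    rw [List.mem_reverse] at ht
    obtain ⟨hpal, hcm⟩ := hts t ht
    have hltt : ∀ a ∈ t, a < fi23h.k := fun a ha =>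
      hlt a (List.mem_append_right _ (List.mem_flatten.mpr ⟨t, ht, ha⟩))
    have hinv : (wd X t)⁻¹ = wd X t := by rw [← hR.wd_reverse, hpal]
    set Tt := wd X t with hTt
    have hk : Tt * Y * Tt⁻¹ * Y⁻¹ ∈ Subgroup.center Γs := by
      refine hc ?_
      have := Fi23Trans.eq_of_trace (u := (t ++ [4, 5, 8, 9]).reverse) (v := ([4, 5, 8, 9] ++ t).reverse)
        (fun a ha => by
          rcases List.mem_append.mp (List.mem_reverse.mp ha) with h | h
          exacts [hltt a h, hlt4 a h])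
        (fun a ha => by
          rcases List.mem_append.mp (List.mem_reverse.mp ha) with h | h
          exacts [hlt4 a h, hltt a h]) hcm
      rw [← hσ, ← hσ, wd_append, wd_append, map_mul, map_mul, ← hTt, ← hY] at this
      rw [MonoidHom.mem_ker, map_mul, map_mul, map_mul, map_inv, map_inv, this]
      group
    refine ⟨_, hk, ?_, by group⟩
    have e1 : Tt * (Tt * Y * Tt⁻¹ * Y⁻¹) * Tt⁻¹ = Tt * Y * Tt⁻¹ * Y⁻¹ := by
      rw [Subgroup.mem_center_iff.mp hk Tt, mul_inv_cancel_right]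
    have e2 : Tt * (Tt * Y * Tt⁻¹ * Y⁻¹) * Tt⁻¹ = (Tt * Y * Tt⁻¹ * Y⁻¹)⁻¹ := by
      calc Tt * (Tt * Y * Tt⁻¹ * Y⁻¹) * Tt⁻¹ = (Tt * Tt) * Y * Tt⁻¹ * Y⁻¹ * Tt⁻¹ := by group
        _ = Y * Tt⁻¹ * Y⁻¹ * Tt⁻¹ := by
            rw [show Tt * Tt = 1 from inv_eq_iff_mul_eq_one.mp hinv, one_mul]
        _ = Y * Tt * Y⁻¹ * Tt⁻¹ := by rw [hinv]
        _ = _ := by group
    exact inv_eq_iff_mul_eq_one.mp (e2.symm.trans e1)
  obtain ⟨k, hk, hk2, hprod⟩ := exists_sign_prod Y _ hsign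
  set Q := (fi23Trans.reverse.map (wd X)).prod
  have hQ : wd X fi23Trans.reverse.flatten = Q := by
    simp only [Q, wd, List.map_flatten, List.prod_flatten, List.map_map]
    rfl
  set Xw := wd X (transWord.map m22)
  have hκ : (Y * Y * Q)⁻¹ * Xw ∈ Subgroup.center Γs := by
    refine hc ?_
    have := Fi23Trans.eq_of_trace (fun a ha => hlt a (List.mem_append_left _ (List.mem_append_left _
        (List.mem_reverse.mp ha))))
      (fun a ha => by
        rcases List.mem_append.mp (List.mem_reverse.mp ha) with h | h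
        · rcases List.mem_append.mp h with h | h <;> exact hlt4 a h
        · obtain ⟨t, ht, hat⟩ := List.mem_flatten.mp h
          exact hlt a (List.mem_append_right _ (List.mem_flatten.mpr ⟨t, List.mem_reverse.mp ht, hat⟩))) htr
    rw [← hσ, ← hσ, wd_append, wd_append, hQ] at this
    rw [MonoidHom.mem_ker, map_mul, map_inv, this, inv_mul_cancel]
  have hXY : Xw * Y * Xw⁻¹ * Y⁻¹ = k := by
    calc Xw * Y * Xw⁻¹ * Y⁻¹
        = (Y * Y * Q) * (((Y * Y * Q)⁻¹ * Xw) * Y * ((Y * Y * Q)⁻¹ * Xw)⁻¹) * (Y * Y * Q)⁻¹ * Y⁻¹ := by group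
      _ = (Y * Y) * (Q * Y * Q⁻¹) * (Y * Y)⁻¹ * Y⁻¹ := by
          rw [← Subgroup.mem_center_iff.mp hκ Y, mul_inv_cancel_right]; group
      _ = (Y * Y) * k * (Y * Y)⁻¹ := by rw [hprod]; group
      _ = k := by rw [Subgroup.mem_center_iff.mp hk (Y * Y), mul_inv_cancel_right]
  rw [hXY] at hcomm
  rw [← hcomm] at h3 ⊢
  rwa [pow_succ, pow_two, hk2, one_mul] at h3

/-- Stem extensions of Fi23 are trivial. -/
theorem fi23_ker_eq_bot {Γ : Type} [Group Γ] [Finite Γ] (σ : Γ →* Cfsg.Spor.Fi23) (hσ : Cfsg.IsStemExtension σ) :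
    σ.ker = ⊥ := by
  obtain ⟨hs, hc, hcom⟩ := hσ
  have hTN : edges23.all (fun e => Nat.blt e.1 10 && Nat.blt e.2 10) = true := by decide
  have hrel := gen_rels (extra := {r | r ∈ Cfsg.Spor.Fi23.extra}) graph23 fi23Setup.el
    (fun k hk => el_gen hk) (fun k hk => el_out hk) hTN (by decide)
  obtain ⟨Γs, iG, iF, σs, ι, X, hsurj, hcs, hinj, hι, hcm, hX, hX1, hR⟩ :=
    exists_frame (G := fi23Setup.G) σ hs hc fi23Setup.el edges23 10 8 (by norm_num) hTN (by decide) (by decide)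
      hrel.1 (fun k hk => el_out hk) hrel.2.1 hrel.2.2 Fi23Trans.z0 Fi23Trans.Hs
      (fun y hy => by
        rw [← Fi23Trans.centralizer_z0, Subgroup.mem_centralizer_singleton_iff]; exact hy)
      (fun y hy => Fi23Trans.z0_comm hy) (index_ne_two Fi23Trans.hom_eq_one) z0_conj
  set X' : Cfsg.Spor.Fi23.Gen → Γs := fun a => X (idx23 a)
  have hX' : ∀ a, σs (X' a) = PresentedGroup.of a := fun a => by
    show σs (X (idx23 a)) = _
    rw [hX, el_gen (idx23_spec a).1, (idx23_spec a).2]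
  have hout : ∀ k, 9 ≤ k → X (m22 k) = 1 := fun k hk =>
    hX1 _ (by unfold m22; split_ifs <;> omega)
  have hR22 : Rel edges22 (fun k => X (m22 k)) := rel_comp hR m22 9 (by decide) hout (by decide)
  have hsplit : FreeGroup.lift X' ((Cfsg.Spor.Fi23.d * Cfsg.Spor.Fi23.c * Cfsg.Spor.Fi23.b * Cfsg.Spor.Fi23.d *
      Cfsg.Spor.Fi23.e * Cfsg.Spor.Fi23.f * Cfsg.Spor.Fi23.d * Cfsg.Spor.Fi23.h * Cfsg.Spor.Fi23.i) ^ 10) =
      wd (fun k => X (m22 k)) spider ^ 10 := by
    simp [X', idx23, m22, wd, spider, mul_assoc]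
  have hsplit7 : FreeGroup.lift X' ((Cfsg.Spor.Fi23.a * Cfsg.Spor.Fi23.b * Cfsg.Spor.Fi23.c * Cfsg.Spor.Fi23.d *
      Cfsg.Spor.Fi23.e * Cfsg.Spor.Fi23.f * Cfsg.Spor.Fi23.h) ^ 9) =
      wd (fun k => X (m22 k)) e7Word ^ 9 := by
    simp [X', idx23, m22, wd, e7Word, mul_assoc]
  have hC : wd (fun k => X (m22 k)) spider ^ 10 ∈ Subgroup.center Γs :=
    hsplit ▸ lift_value_central σs hcs X' hX' (Or.inr (show _ ∈ Cfsg.Spor.Fi23.extra by simp [Cfsg.Spor.Fi23.extra]))
  have hC7 : wd (fun k => X (m22 k)) e7Word ^ 9 ∈ Subgroup.center Γs :=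
    hsplit7 ▸ lift_value_central σs hcs X' hX' (Or.inr (show _ ∈ Cfsg.Spor.Fi23.extra by simp [Cfsg.Spor.Fi23.extra]))
  have h1 : wd (fun k => X (m22 k)) spider ^ 10 = 1 := spider_eq_one σs hcs X hX hR hR22 hC
  have h7 := e7_sq hR22 hC7
  set c7 := wd (fun k => X (m22 k)) e7Word ^ 9
  let p : Multiplicative (ZMod 2) := Multiplicative.ofAdd 1
  have hp : p * p = 1 := by decide
  let L : Subgroup (Γs × Multiplicative (ZMod 2)) := Subgroup.zpowers (c7, p)
  rw [eq_bot_iff]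
  intro x hx
  have hmem : (ι x, 1) ∈ L := by
    refine mem_of_relators σ σs hcs ι hι hcm X' hX' (fun _ : Cfsg.Spor.Fi23.Gen => p) L ?_ hx (hcom hx)
    intro r hr
    rcases hr with hr | hr
    · obtain ⟨e1, e2⟩ := cox_value (A := Multiplicative (ZMod 2)) graph23 idx23 idx23_spec hR hp hr
      rw [show (X' : _ → Γs) = fun a => X (idx23 a) from rfl, e1, e2]
      exact one_mem L
    · have hr' : r ∈ Cfsg.Spor.Fi23.extra := hr
      simp only [Cfsg.Spor.Fi23.extra, List.mem_cons, List.not_mem_nil, or_false] at hr'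
      rcases hr' with rfl | rfl
      · rw [hsplit, h1, show FreeGroup.lift (fun _ : Cfsg.Spor.Fi23.Gen => p) _ = (1 : Multiplicative (ZMod 2)) by
          simp only [map_pow, map_mul, FreeGroup.lift_apply_of]; decide]
        exact one_mem L
      · rw [hsplit7, show FreeGroup.lift (fun _ : Cfsg.Spor.Fi23.Gen => p) _ = p by
          simp only [map_pow, map_mul, FreeGroup.lift_apply_of]; decide]
        exact Subgroup.mem_zpowers _
  obtain ⟨n, hn⟩ := Subgroup.mem_zpowers_iff.mp hmem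
  have hn1 : c7 ^ n = ι x := congrArg Prod.fst hn
  have hn2 : p ^ n = 1 := congrArg Prod.snd hn
  have hop : orderOf p = 2 := orderOf_eq_prime (by rw [pow_two]; exact hp) (by decide)
  obtain ⟨j, hj⟩ : (2 : ℤ) ∣ n := by
    have := orderOf_dvd_iff_zpow_eq_one.mpr hn2
    rwa [hop] at this
  rw [hj, zpow_mul, show c7 ^ (2 : ℤ) = 1 by exact_mod_cast h7, one_zpow] at hn1
  exact Subgroup.mem_bot.mpr (hinj (by rw [map_one, ← hn1]))


end Cfsg.Agent.CoxStem
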